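import Cfsg.Agent.OddOrder.CN.Basic
import Cfsg.Agent.OddOrder.TypePBasic
import Cfsg.Agent.OddOrder.BG3.Frobenius
import Cfsg.Agent.Solvable.Fitting
import Cfsg.Agent.Solvable.FixedPointFree
import Cfsg.Agent.Solvable.Hall
import Mathlib.GroupTheory.SpecificGroups.ZGroup
import Mathlib.GroupTheory.SchurZassenhaus

/-!
# CN-groups with a normal Sylow subgroup (Gorenstein, 14.1.4)

* `isNilpotent_of_fpf`: in a CN-group a group acting without fixed points on a nontrivial normal
  nilpotent subgroup is nilpotent.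
* `fpf_nilpotent_structure`: the shape of a nilpotent fixed point free group.
* `frobenius_of_normal_sylow` (Gorenstein 14.1.4): a non-nilpotent CN-group with a nontrivial
  normal Sylow subgroup is a Frobenius group with kernel its largest normal nilpotent Hall subgroup.
-/

set_option autoImplicit false
set_option linter.style.haveILetI false

namespace CfsgLib.OddOrder.CN

open Subgroup
open scoped Pointwise

variable {G : Type*} [Group G] [Finite G]

theorem fittingHall_le_fittingSubgroup : Cfsg.fittingHall G ≤ Cfsg.fittingSubgroup G :=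
  sSup_le fun N hN => by
    haveI := hN.1
    exact Solvable.le_fittingSubgroup hN.2.1

theorem fittingHall_isNilpotent : Group.IsNilpotent (Cfsg.fittingHall G) :=
  isNilpotent_of_le fittingHall_le_fittingSubgroup Solvable.fittingSubgroup_isNilpotent

theorem sylow_le_fittingHall {p : ℕ} [Fact p.Prime] (P : Sylow p G)
    (hP : (P : Subgroup G).Normal) : (P : Subgroup G) ≤ Cfsg.fittingHall G :=
  le_sSup ⟨hP, P.isPGroup'.isNilpotent, P.card_coprime_index⟩

theorem le_fittingHall {N : Subgroup G} [hN : N.Normal] (hn : Group.IsNilpotent N)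
    (hc : (Nat.card N).Coprime N.index) : N ≤ Cfsg.fittingHall G :=
  le_sSup ⟨hN, hn, hc⟩

/-- `p`-subgroups of a fixed point free group are cyclic or generalised quaternion. -/
theorem isCyclic_or_quaternion_of_fpf {K E : Subgroup G} [K.Normal] (hK : K ≠ ⊥)
    (hfpf : ∀ h ∈ E, h ≠ 1 → K ⊓ centralizer ({h} : Set G) = ⊥) {p : ℕ} [Fact p.Prime]
    {P : Subgroup G} (hPE : P ≤ E) (hP : IsPGroup p P) :
    IsCyclic P ∨ (p = 2 ∧ ∃ m : ℕ, 1 ≤ m ∧ Nonempty (↥P ≃* QuaternionGroup (2 ^ m))) := by
  let e := subgroupOfEquivOfLe hPE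
  have hP' : IsPGroup p (P.subgroupOf E) := hP.of_equiv e.symm
  rcases TwoGroupsQ.isCyclic_or_quaternion hP'
    (Solvable.hasUniqueOrderP_of_fpf hK hfpf hP') with h | ⟨h2, m, hm, ⟨f⟩⟩
  · exact Or.inl (isCyclic_of_surjective e.toMonoidHom e.surjective)
  · exact Or.inr ⟨h2, m, hm, ⟨e.symm.trans f⟩⟩

theorem isZGroup_of_fpf {K E : Subgroup G} [K.Normal] (hK : K ≠ ⊥)
    (hfpf : ∀ h ∈ E, h ≠ 1 → K ⊓ centralizer ({h} : Set G) = ⊥) {A : Subgroup G} (hAE : A ≤ E)
    (hA : Odd (Nat.card A)) : IsZGroup A := by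
  refine ⟨fun p hp P => ?_⟩
  haveI := Fact.mk hp
  rcases isCyclic_or_quaternion_of_fpf hK hfpf ((map_subtype_le (P : Subgroup A)).trans hAE)
    (P.isPGroup'.map A.subtype) with h | ⟨h2, m, -, ⟨f⟩⟩
  · haveI := h
    exact isCyclic_of_surjective
      ((P : Subgroup A).equivMapOfInjective A.subtype A.subtype_injective).symm.toMonoidHom
      (MulEquiv.surjective _)
  · exfalso
    have hd := (card_dvd_of_le (map_subtype_le (P : Subgroup A)))
    rw [Nat.card_congr f.toEquiv, Nat.card_eq_fintype_card, QuaternionGroup.card] at hd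
    exact (Nat.not_even_iff_odd.mpr hA) (even_iff_two_dvd.mpr
      ((dvd_mul_of_dvd_left (by norm_num : 2 ∣ 4) _).trans hd))

/-- In a CN-group a group acting without fixed points on a nontrivial normal nilpotent subgroup is
nilpotent. -/
theorem isNilpotent_of_fpf (hCN : Cfsg.IsCNGroup G) {K E : Subgroup G} [K.Normal] (hK : K ≠ ⊥)
    (hKn : Group.IsNilpotent K)
    (hfpf : ∀ h ∈ E, h ≠ 1 → K ⊓ centralizer ({h} : Set G) = ⊥) : Group.IsNilpotent E := by
  suffices h : E = ⊥ ∨ ∃ z ∈ E, z ≠ 1 ∧ E ≤ centralizer ({z} : Set G) by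
    rcases h with rfl | ⟨z, -, hz, hle⟩
    · infer_instance
    · exact isNilpotent_of_le hle (hCN z hz)
  rw [or_iff_not_imp_left]
  intro hE
  by_cases heven : 2 ∣ Nat.card E
  · -- the involution is unique, hence central
    haveI := Fact.mk Nat.prime_two
    obtain ⟨⟨t, htE⟩, ht⟩ := exists_prime_orderOf_dvd_card' 2 heven
    rw [Subgroup.orderOf_mk] at ht
    have ht1 : t ≠ 1 := fun h => by rw [h, orderOf_one] at ht; omega
    have ht2 : t * t = 1 := by rw [← sq, ← ht]; exact pow_orderOf_eq_one t
    refine ⟨t, htE, ht1, fun e he => ?_⟩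
    set u := e * t * e⁻¹ with hu
    have huE : u ∈ E := mul_mem (mul_mem he htE) (inv_mem he)
    have hu1 : u ≠ 1 := fun h => ht1 (conj_eq_one_iff.mp h)
    have hu2 : u * u = 1 := by
      rw [hu, show e * t * e⁻¹ * (e * t * e⁻¹) = e * (t * t) * e⁻¹ by group, ht2]; group
    obtain ⟨k, hk, hk1⟩ := K.bot_or_exists_ne_one.resolve_left hK
    have h1 := (Solvable.inverts_of_fpf_involution hfpf htE ht1 ht2).1
    have h2 := (Solvable.inverts_of_fpf_involution hfpf huE hu1 hu2).1
    have hut : u⁻¹ * t = 1 := by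
      by_contra hne
      refine hk1 (Solvable.eq_one_of_commute_of_fpf hfpf (mul_mem (inv_mem huE) htE) hne hk ?_)
      calc u⁻¹ * t * k = u⁻¹ * (t * k * t⁻¹) * t := by group
        _ = u⁻¹ * k⁻¹ * t := by rw [h1 k hk]
        _ = u⁻¹ * (u * k * u⁻¹) * t := by rw [h2 k hk]
        _ = k * (u⁻¹ * t) := by group
    have hut' : u = t := inv_mul_eq_one.mp hut
    rw [mem_centralizer_singleton_iff]
    calc e * t = u * e := by rw [hu]; group
      _ = t * e := by rw [hut']
  · -- odd order: a normal subgroup of prime order is central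
    have hodd : Odd (Nat.card E) := by
      rw [← Nat.not_even_iff_odd, even_iff_two_dvd]; exact heven
    haveI : IsZGroup E := isZGroup_of_fpf hK hfpf le_rfl hodd
    haveI : Nontrivial E := (nontrivial_iff_ne_bot E).mpr hE
    obtain ⟨A₀, hA₀n, hA₀1, hmin⟩ := Solvable.exists_minimal_normal (G := E)
    haveI := hA₀n
    obtain ⟨s, hs, hexp⟩ := Solvable.exists_prime_pow_eq_one_of_minimal_normal hA₀1 hmin
    haveI := Fact.mk hs
    have hA₀p : IsPGroup s A₀ := fun x => ⟨1, Subtype.ext (by simpa using hexp x x.2)⟩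
    haveI : IsCyclic A₀ := hA₀p.isCyclic_of_isZGroup
    obtain ⟨⟨a, haA₀⟩, ha⟩ := IsCyclic.exists_ofOrder_eq_natCard (α := A₀)
    have hcA : Nat.card A₀ = s := by
      refine ((Nat.dvd_prime hs).mp (ha ▸ orderOf_dvd_of_pow_eq_one
        (Subtype.ext (by simpa using hexp a haA₀)))).resolve_left fun h => hA₀1 ?_
      exact card_eq_one.mp h
    rw [Subgroup.orderOf_mk, hcA] at ha
    have ha1 : (a : G) ≠ 1 := fun h => by
      rw [← Subgroup.orderOf_coe, h, orderOf_one] at ha; exact hs.one_lt.ne ha
    refine ⟨a, a.2, ha1, fun e he => mem_of_prime_pow_mem fun q k hq y hy hyo => ?_⟩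
    haveI := Fact.mk hq
    have hyE : y ∈ E := zpowers_le.mpr he hy
    rw [mem_centralizer_singleton_iff]
    by_cases hqs : q = s
    · subst hqs
      have hP : IsPGroup q ↥(A₀ ⊔ zpowers (⟨y, hyE⟩ : E)) :=
        hA₀p.to_sup_of_normal_left (isPGroup_zpowers (k := k) (by rwa [Subgroup.orderOf_mk]))
      haveI := hP.isCyclic_of_isZGroup
      exact congrArg (fun x : E => (x : G)) (setLike_mul_comm (s := A₀ ⊔ zpowers (⟨y, hyE⟩ : E))
        (mem_sup_right (mem_zpowers _)) (mem_sup_left haA₀))
    · rcases Nat.eq_zero_or_pos k with rfl | hk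
      · rw [orderOf_eq_one_iff.mp (hyo.trans (pow_zero q)), one_mul, mul_one]
      set x := y ^ (q ^ (k - 1)) with hx
      have hxo : orderOf x = q := by
        rw [hx, orderOf_pow' _ (pow_ne_zero _ hq.ne_zero), hyo,
          Nat.gcd_eq_right (pow_dvd_pow q (Nat.sub_le k 1)),
          Nat.pow_div (Nat.sub_le k 1) hq.pos, Nat.sub_sub_self hk, pow_one]
      have hx1 : x ≠ 1 := fun h => by rw [h, orderOf_one] at hxo; exact hq.one_lt.ne hxo
      have hxE : x ∈ E := pow_mem hyE _
      have hax : Commute x a := by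
        by_contra hnc
        -- otherwise `⟨a⟩⟨x⟩` is a Frobenius group acting on the centre of `K`
        set V := (center K).map K.subtype with hV
        haveI : V.Normal := by rw [hV]; infer_instance
        have hVK : V ≤ K := map_subtype_le _
        have hV1 : V ≠ ⊥ := by
          haveI := hKn
          haveI := (nontrivial_iff_ne_bot K).mpr hK
          rw [hV, Ne, map_eq_bot_iff_of_injective _ K.subtype_injective]
          exact Group.IsNilpotent.center_ne_bot K
        have hfpfV : ∀ h ∈ E, h ≠ 1 → V ⊓ centralizer ({h} : Set G) = ⊥ := fun h hh h1 =>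
          le_bot_iff.mp ((inf_le_inf_right _ hVK).trans (hfpf h hh h1).le)
        set A := A₀.map E.subtype with hA
        have hAE : A ≤ E := map_subtype_le _
        have hAc : Nat.card A = s := by
          rw [hA, card_map_of_injective E.subtype_injective, hcA]
        have haA : (a : G) ∈ A := mem_map_of_mem _ haA₀
        have hRA : zpowers x ≤ normalizer (A : Set G) := by
          refine zpowers_le.mpr (le_normalizer_map E.subtype ⟨⟨x, hxE⟩, ?_, rfl⟩)
          rw [normalizer_eq_top]
          exact mem_top _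
        have hfr : ∀ r ∈ zpowers x, r ≠ 1 → A ⊓ centralizer ({r} : Set G) = ⊥ := by
          intro r hr hr1
          rcases (Nat.dvd_prime hs).mp (hAc ▸ card_dvd_of_le
            (inf_le_left : A ⊓ centralizer ({r} : Set G) ≤ A)) with h | h
          · exact card_eq_one.mp h
          · exfalso
            have hall : A ⊓ centralizer ({r} : Set G) = A :=
              eq_of_le_of_card_ge inf_le_left (by rw [h, hAc])
            have har := mem_centralizer_singleton_iff.mp (hall.ge haA).2
            have hz : zpowers r = zpowers x := by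
              refine eq_of_le_of_card_ge (zpowers_le.mpr hr) ?_
              rw [Nat.card_zpowers, Nat.card_zpowers, hxo]
              exact (((Nat.dvd_prime hq).mp (hxo ▸ Nat.card_zpowers x ▸
                orderOf_dvd_natCard _ hr)).resolve_left fun h1 =>
                  hr1 (orderOf_eq_one_iff.mp h1)).ge
            obtain ⟨i, hi⟩ := mem_zpowers_iff.mp (hz ▸ mem_zpowers x : x ∈ zpowers r)
            exact hnc (hi ▸ (show Commute r (a : G) from har.symm).zpow_left i)
        have hle := OddOrder.le_centralizer_of_frobenius_action (V := V)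
          (K := A) (R := zpowers x) (by rw [hV]; infer_instance) hRA
          le_normalizer_of_normal le_normalizer_of_normal hfr
          ((Solvable.coprime_card_of_fpf hfpfV).coprime_dvd_left (card_dvd_of_le hAE))
          (by
            rw [eq_bot_iff, ← hfpfV x hxE hx1]
            exact inf_le_inf_left _ (centralizer_le (Set.singleton_subset_iff.mpr (mem_zpowers x))))
        obtain ⟨v, hv, hv1⟩ := V.bot_or_exists_ne_one.resolve_left hV1
        exact hv1 (Solvable.eq_one_of_commute_of_fpf hfpfV a.2 ha1 hv (hle haA v hv).symm)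
      have hmem := mem_centralizer_of_commute hCN (isPGroup_zpowers hyo)
        (pow_mem (mem_zpowers y) _) hx1
        (by rw [Subgroup.orderOf_coe, ha]; exact (Nat.coprime_primes hs hq).mpr (Ne.symm hqs)) hax
      exact hmem y (mem_zpowers y)

/-- A nilpotent group acting without fixed points is cyclic or a product of a cyclic group of odd
order and a quaternion group. -/
theorem fpf_nilpotent_structure {K E : Subgroup G} [K.Normal] (hK : K ≠ ⊥)
    (hfpf : ∀ h ∈ E, h ≠ 1 → K ⊓ centralizer ({h} : Set G) = ⊥) (hE : Group.IsNilpotent E) :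
    IsCyclic E ∨ ∃ C Q : Subgroup G, C ⊔ Q = E ∧ (∀ a ∈ C, ∀ b ∈ Q, a * b = b * a) ∧ IsCyclic C ∧
      Odd (Nat.card C) ∧ ∃ n : ℕ, Nonempty (↥Q ≃* QuaternionGroup (2 ^ n)) := by
  haveI := hE
  haveI := Fact.mk Nat.prime_two
  obtain ⟨Q₀⟩ : Nonempty (Sylow 2 E) := inferInstance
  have hQc := Q₀.card_eq_multiplicity
  set k := (Nat.card E).factorization 2
  have hmul : Nat.card E = (Nat.card E / 2 ^ k) * 2 ^ k :=
    (mul_comm _ _).trans (Nat.ordProj_mul_ordCompl_eq_self _ _) |>.symm
  have hoddm : ¬ 2 ∣ Nat.card E / 2 ^ k := Nat.not_dvd_ordCompl Nat.prime_two Nat.card_pos.ne'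
  have hco : (Nat.card E / 2 ^ k).Coprime (2 ^ k) :=
    ((Nat.prime_two.coprime_iff_not_dvd.mpr hoddm).symm).pow_right k
  obtain ⟨C₀, hC₀⟩ := Solvable.exists_card_eq_of_coprime (G := E) hmul hco
  set C := C₀.map E.subtype with hC
  set Q := (Q₀ : Subgroup E).map E.subtype with hQ
  have hCodd : Odd (Nat.card C) := by
    rw [hC, card_map_of_injective E.subtype_injective, hC₀, ← Nat.not_even_iff_odd,
      even_iff_two_dvd]
    exact hoddm
  haveI : IsZGroup C := isZGroup_of_fpf hK hfpf (map_subtype_le _) hCodd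
  haveI : Group.IsNilpotent C := isNilpotent_of_le (map_subtype_le _) hE
  rcases isCyclic_or_quaternion_of_fpf hK hfpf (map_subtype_le (Q₀ : Subgroup E))
    (Q₀.isPGroup'.map E.subtype) with hcyc | ⟨-, m, -, hm⟩
  · left
    haveI : IsZGroup E := by
      refine ⟨fun p hp P => ?_⟩
      haveI := Fact.mk hp
      rcases isCyclic_or_quaternion_of_fpf hK hfpf (map_subtype_le (P : Subgroup E))
        (P.isPGroup'.map E.subtype) with h | ⟨h2, -⟩
      · haveI := h
        exact isCyclic_of_surjective
          ((P : Subgroup E).equivMapOfInjective E.subtype E.subtype_injective).symm.toMonoidHom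
          (MulEquiv.surjective _)
      · subst h2
        haveI := hcyc
        haveI : IsCyclic (Q₀ : Subgroup E) := isCyclic_of_surjective
          ((Q₀ : Subgroup E).equivMapOfInjective E.subtype E.subtype_injective).symm.toMonoidHom
          (MulEquiv.surjective _)
        exact isCyclic_of_surjective (Sylow.equiv Q₀ P).toMonoidHom (MulEquiv.surjective _)
    infer_instance
  · refine Or.inr ⟨C, Q, ?_, ?_, inferInstance, hCodd, m, hm⟩
    · have htop : C₀ ⊔ (Q₀ : Subgroup E) = ⊤ := by
        refine eq_top_of_le_card _ (Nat.le_of_dvd Nat.card_pos ?_)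
        rw [hmul]
        exact hco.mul_dvd_of_dvd_of_dvd (hC₀ ▸ card_dvd_of_le le_sup_left)
          (hQc ▸ card_dvd_of_le le_sup_right)
      rw [hC, hQ, ← Subgroup.map_sup, htop, ← MonoidHom.range_eq_map, range_subtype]
    · intro a ha b hb
      refine NilpotentCover.commute_of_coprime_mem hE (map_subtype_le _ ha) (map_subtype_le _ hb) ?_
      refine (Nat.Coprime.coprime_dvd_left (Subgroup.orderOf_dvd_natCard C ha) ?_).coprime_dvd_right
        (Subgroup.orderOf_dvd_natCard Q hb)
      rw [hC, card_map_of_injective E.subtype_injective, hC₀, hQ,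
        card_map_of_injective E.subtype_injective, hQc]
      exact hco

/-- Gorenstein 14.1.4. -/
theorem frobenius_of_normal_sylow (hCN : Cfsg.IsCNGroup G) (hnn : ¬ Group.IsNilpotent G) {p : ℕ}
    [hp : Fact p.Prime] (P : Sylow p G) (hP1 : (P : Subgroup G) ≠ ⊥)
    (hPn : (P : Subgroup G).Normal) :
    Cfsg.fittingHall G ≠ ⊥ ∧ Cfsg.fittingHall G ≠ ⊤ ∧
      (∃ E : Subgroup G, IsComplement' (Cfsg.fittingHall G) E ∧ Cfsg.IsFrobeniusComplement E ∧
        ∀ e ∈ E, e ≠ 1 → Cfsg.fittingHall G ⊓ centralizer ({e} : Set G) = ⊥) ∧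
      Group.IsNilpotent (G ⧸ Cfsg.fittingHall G) := by
  set H := Cfsg.fittingHall G with hH
  have hPH : (P : Subgroup G) ≤ H := sylow_le_fittingHall P hPn
  have hH1 : H ≠ ⊥ := ne_bot_of_le_ne_bot hP1 hPH
  have hHn : Group.IsNilpotent H := fittingHall_isNilpotent
  have hHc := fittingHall_coprime_index G
  have hHt : H ≠ ⊤ := fun h => hnn (by
    rw [h] at hHn
    haveI := hHn
    exact Group.nilpotent_of_mulEquiv Subgroup.topEquiv)
  obtain ⟨E, hE⟩ := exists_right_complement'_of_coprime hHc
  have hcardE : Nat.card E = H.index := (hE.symm.index_eq_card).symm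
  have hfpf : ∀ e ∈ E, e ≠ 1 → H ⊓ centralizer ({e} : Set G) = ⊥ := by
    intro e he he1
    rw [eq_bot_iff]
    rintro h ⟨hh, hhe⟩
    by_contra hh1
    obtain ⟨q, hq, hqd⟩ := Nat.exists_prime_and_dvd (n := orderOf e)
      (fun h => he1 (orderOf_eq_one_iff.mp h))
    obtain ⟨s, hs, hsd⟩ := Nat.exists_prime_and_dvd (n := orderOf h)
      (fun e => hh1 (mem_bot.mpr (orderOf_eq_one_iff.mp e)))
    haveI := Fact.mk hq
    haveI := Fact.mk hs
    set e' := e ^ (orderOf e / q)
    set h' := h ^ (orderOf h / s)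
    have heo : orderOf e' = q := orderOf_pow_orderOf_div (orderOf_pos e).ne' hqd
    have hho : orderOf h' = s := orderOf_pow_orderOf_div (orderOf_pos h).ne' hsd
    have hh'1 : h' ≠ 1 := fun e => by rw [e, orderOf_one] at hho; exact hs.one_lt.ne hho
    have he'1 : e' ≠ 1 := fun h => by rw [h, orderOf_one] at heo; exact hq.one_lt.ne heo
    have hh'H : h' ∈ H := pow_mem hh _
    have hcomm : Commute h' e' :=
      (show Commute h e from mem_centralizer_singleton_iff.mp hhe).pow_pow _ _
    have hqH : ¬ q ∣ Nat.card H := fun hd => hq.ne_one (Nat.eq_one_of_dvd_coprimes hHc hd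
      (hqd.trans (hcardE ▸ Subgroup.orderOf_dvd_natCard E he)))
    have hcoH : ∀ u ∈ H, (orderOf u).Coprime q := fun u hu =>
      ((hq.coprime_iff_not_dvd.mpr hqH).symm).coprime_dvd_left (Subgroup.orderOf_dvd_natCard H hu)
    -- `e'` centralises `H`
    have hHe : H ≤ centralizer ({e'} : Set G) := by
      intro u hu
      refine mem_of_prime_pow_mem fun t k ht y hy hyo => ?_
      have hyH : y ∈ H := zpowers_le.mpr hu hy
      rw [mem_centralizer_singleton_iff]
      by_cases hts : t = s
      · subst hts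
        obtain ⟨S, -, hSp, hSall, -⟩ := NilpotentCover.exists_pGroup_of_mem (p := t) hHn
        exact mem_centralizer_of_commute hCN hSp (hSall h' hh'H ⟨1, by rw [hho, pow_one]⟩) hh'1
          (heo ▸ (Nat.coprime_primes hq hs).mpr fun h => hqH (h ▸ hsd.trans
            (Subgroup.orderOf_dvd_natCard H hh)))
          hcomm y (hSall y hyH ⟨k, hyo⟩)
      · exact (commute_of_coprime hCN hh'1
          (NilpotentCover.commute_of_coprime_mem hHn hyH hh'H
            (by rw [hyo, hho]; exact ((Nat.coprime_primes ht hs).mpr hts).pow_left k))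
          hcomm.symm (by rw [heo]; exact hcoH y hyH)).eq
    -- hence a Sylow `q`-subgroup centralises `P`, and is normal
    obtain ⟨Q, hQ⟩ := (isPGroup_zpowers (x := e') (k := 1) (by rw [heo, pow_one])).exists_le_sylow
    have hQC : (Q : Subgroup G) ≤ centralizer ((P : Subgroup G) : Set G) := by
      intro y hy x hx
      exact (mem_centralizer_of_commute hCN Q.isPGroup' (hQ (mem_zpowers e')) he'1
        (hcoH x (hPH hx)) (show Commute e' x from
          (mem_centralizer_singleton_iff.mp (hHe (hPH hx))).symm) y hy).symm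
    haveI := hPn
    set C := centralizer ((P : Subgroup G) : Set G) with hC
    obtain ⟨x, hx, hx1⟩ := (P : Subgroup G).bot_or_exists_ne_one.resolve_left hP1
    haveI hCnil : Group.IsNilpotent C :=
      isNilpotent_of_le (centralizer_le (Set.singleton_subset_iff.mpr hx)) (hCN x hx1)
    haveI : C.Normal := by rw [hC]; infer_instance
    have hQn : (Q : Subgroup G).Normal := by
      haveI : ((Q.subtype hQC : Sylow q C) : Subgroup C).Normal :=
        (Q.subtype hQC).normal_of_normalizerCondition Group.normalizerCondition_of_isNilpotent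
      haveI := Sylow.characteristic_of_normal (Q.subtype hQC) inferInstance
      have h1 : ((Q.subtype hQC : Sylow q C) : Subgroup C).map C.subtype = Q := by
        rw [Sylow.coe_subtype, map_subgroupOf_eq_of_le hQC]
      rw [← h1]
      infer_instance
    refine hqH ((?_ : q ∣ Nat.card (Q : Subgroup G)).trans
      (card_dvd_of_le (sylow_le_fittingHall Q hQn)))
    exact (dvd_of_eq (by rw [Nat.card_zpowers, heo] : q = Nat.card (zpowers e'))).trans
      (card_dvd_of_le hQ)
  have hEne : E ≠ ⊥ := fun h => hHt (by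
    rw [h, card_bot] at hcardE
    exact index_eq_one.mp hcardE.symm)
  refine ⟨hH1, hHt, ⟨E, hE, (Solvable.isFrobeniusComplement_iff_fpf hE hH1 hEne).mpr hfpf, hfpf⟩, ?_⟩
  haveI := isNilpotent_of_fpf hCN hH1 hHn hfpf
  refine Group.nilpotent_of_surjective ((QuotientGroup.mk' H).comp E.subtype) fun y => ?_
  obtain ⟨g, rfl⟩ := QuotientGroup.mk'_surjective H y
  obtain ⟨⟨⟨h, hh⟩, ⟨e, he⟩⟩, hhe⟩ := hE.2 g
  simp only at hhe
  refine ⟨⟨e, he⟩, ?_⟩
  show QuotientGroup.mk' H e = QuotientGroup.mk' H g
  rw [← hhe, map_mul, show QuotientGroup.mk' H h = 1 from (QuotientGroup.eq_one_iff h).mpr hh,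
    one_mul]

end CfsgLib.OddOrder.CN
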