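import Cfsg.Agent.OddOrder.CN.Basic
import Cfsg.Agent.ConjFunctor.Basic

/-!
# Maximal nilpotent subgroups of CN-groups (Gorenstein, 14.2)

* `exists_maximal_nilpotent`, `coprime_index_of_maximal_nilpotent`, `inf_conj_eq_bot_of_not_primePow`,
  `centralizer_le_of_ti`, `eq_of_inf_ne_bot`.
-/

set_option autoImplicit false
set_option linter.style.haveILetI false

namespace CfsgLib.OddOrder.CN

open Subgroup

variable {G : Type*} [Group G] [Finite G]

/-- `H` is maximal among the nilpotent subgroups. -/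
abbrev IsMaxNilpotent (H : Subgroup G) : Prop :=
  Group.IsNilpotent H ∧ ∀ L : Subgroup G, Group.IsNilpotent L → H ≤ L → L = H

/-- The trivial intersection property. -/
abbrev IsTIConj (H : Subgroup G) : Prop :=
  ∀ g : G, H.map (MulAut.conj g).toMonoidHom ≠ H → H ⊓ H.map (MulAut.conj g).toMonoidHom = ⊥

theorem exists_maximal_nilpotent {K : Subgroup G} (hK : Group.IsNilpotent K) :
    ∃ H : Subgroup G, K ≤ H ∧ IsMaxNilpotent H := by
  obtain ⟨H, ⟨h1, h2⟩, hmax⟩ := Set.Finite.exists_maximal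
    (s := {H : Subgroup G | K ≤ H ∧ Group.IsNilpotent H}) (Set.toFinite _) ⟨K, le_rfl, hK⟩
  exact ⟨H, h1, h2, fun L hL hle => le_antisymm (hmax ⟨h1.trans hle, hL⟩ hle) hle⟩

theorem isMaxNilpotent_map_conj {H : Subgroup G} (hH : IsMaxNilpotent H) (g : G) :
    IsMaxNilpotent (H.map (MulAut.conj g).toMonoidHom) := by
  haveI := hH.1
  refine ⟨Group.nilpotent_of_mulEquiv
    (H.equivMapOfInjective _ (MulAut.conj g).injective), fun L hL hle => ?_⟩
  haveI := hL
  have h1 : L.comap (MulAut.conj g).toMonoidHom = H := by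
    refine hH.2 _ ?_ fun x hx => hle (mem_map_of_mem _ hx)
    exact Group.nilpotent_of_mulEquiv
      ((L.comap (MulAut.conj g).toMonoidHom).equivMapOfInjective _ (MulAut.conj g).injective |>.trans
        (MulEquiv.subgroupCongr (map_comap_eq_self_of_surjective (MulAut.conj g).surjective L))).symm
  rw [← h1, map_comap_eq_self_of_surjective (MulAut.conj g).surjective]

/-- A `p`-element of a maximal nilpotent subgroup, and a `p`-subgroup containing it. -/
theorem sylow_le_of_maximal_nilpotent (hCN : Cfsg.IsCNGroup G) {H : Subgroup G}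
    (hH : IsMaxNilpotent H) {p : ℕ} [Fact p.Prime] (hp : p ∣ Nat.card H) :
    ∃ S : Sylow p G, (S : Subgroup G) ≤ H := by
  obtain ⟨P, hPH, hPp, hPall, -⟩ := NilpotentCover.exists_pGroup_of_mem (p := p) hH.1
  obtain ⟨S, hS⟩ := hPp.exists_le_sylow
  refine ⟨S, ?_⟩
  obtain ⟨⟨x, hxH⟩, hx⟩ := exists_prime_orderOf_dvd_card' p hp
  rw [Subgroup.orderOf_mk] at hx
  have hx1 : x ≠ 1 := fun h => by
    rw [h, orderOf_one] at hx; exact (Fact.out : p.Prime).one_lt.ne hx
  have hxP : x ∈ P := hPall x hxH ⟨1, by rw [hx, pow_one]⟩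
  -- the `p'`-elements of `H` centralise `S`
  have hcen : ∀ y ∈ H, (orderOf y).Coprime p → ∀ s ∈ S, Commute s y := fun y hy hyp s hs =>
    mem_centralizer_of_commute hCN S.isPGroup' (hS hxP) hx1 hyp
      (NilpotentCover.commute_of_coprime_mem hH.1 hxH hy (by
        rw [hx]; exact hyp.symm)) s hs
  set L := H ⊔ (S : Subgroup G) with hL
  suffices hLn : Group.IsNilpotent L by
    exact le_sup_right.trans (hH.2 L hLn le_sup_left).le
  -- `L` is generated by `S` and the `p'`-part of `H`, which commute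
  set D := closure {y : G | y ∈ H ∧ (orderOf y).Coprime p} with hD
  have hDH : D ≤ H := (closure_le H).2 fun y hy => hy.1
  have hDS : D ≤ centralizer ((S : Subgroup G) : Set G) :=
    (closure_le _).2 fun y hy s hs => hcen y hy.1 hy.2 s hs
  have hle : L ≤ D ⊔ (S : Subgroup G) := by
    refine sup_le (fun u hu => mem_of_prime_pow_mem fun q k hq y hy hyo => ?_) le_sup_right
    have hyH : y ∈ H := zpowers_le.2 hu hy
    by_cases hqp : q = p
    · subst hqp
      exact mem_sup_right (hS (hPall y hyH ⟨k, hyo⟩))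
    · exact mem_sup_left (subset_closure ⟨hyH, hyo ▸
        ((Nat.coprime_primes hq Fact.out).2 hqp).pow_left k⟩)
  refine isNilpotent_of_le hle ?_
  have hc : ∀ (a : D) (b : (S : Subgroup G)), Commute (D.subtype a) ((S : Subgroup G).subtype b) :=
    fun a b => ((hDS a.2) b b.2).symm
  haveI : Group.IsNilpotent D := isNilpotent_of_le hDH hH.1
  haveI := S.isPGroup'.isNilpotent
  have hr : (MonoidHom.noncommCoprod D.subtype (S : Subgroup G).subtype hc).range =
      D ⊔ (S : Subgroup G) := by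
    rw [MonoidHom.noncommCoprod_range, range_subtype, range_subtype]
  rw [← hr]
  exact Group.nilpotent_of_surjective _ (MonoidHom.rangeRestrict_surjective _)

/-- Gorenstein 14.2.2: maximal nilpotent subgroups are Hall subgroups. -/
theorem coprime_index_of_maximal_nilpotent (hCN : Cfsg.IsCNGroup G) {H : Subgroup G}
    (hH : IsMaxNilpotent H) : (Nat.card H).Coprime H.index := by
  refine Nat.coprime_of_dvd fun p hp hd hd' => ?_
  haveI := Fact.mk hp
  obtain ⟨S, hS⟩ := sylow_le_of_maximal_nilpotent hCN hH hd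
  exact S.not_dvd_index (hd'.trans (index_dvd_of_le hS))

/-- `p`-elements normalising a maximal nilpotent `H` with `p ∣ #H` lie in it. -/
theorem mem_of_mem_normalizer (hCN : Cfsg.IsCNGroup G) {H : Subgroup G} (hH : IsMaxNilpotent H)
    {p k : ℕ} (hp : p.Prime) (hd : p ∣ Nat.card H) {y : G} (hy : y ∈ normalizer (H : Set G))
    (hyo : orderOf y = p ^ k) : y ∈ H := by
  set N := normalizer (H : Set G)
  haveI : (H.subgroupOf N).Normal :=
    (normal_subgroupOf_iff_le_normalizer le_normalizer).2 le_rfl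
  have h1 : orderOf (QuotientGroup.mk' (H.subgroupOf N) ⟨y, hy⟩) ∣ p ^ k :=
    (orderOf_map_dvd _ _).trans (by rw [Subgroup.orderOf_mk, hyo])
  have h2 : orderOf (QuotientGroup.mk' (H.subgroupOf N) ⟨y, hy⟩) ∣ H.index := by
    refine (_root_.orderOf_dvd_natCard _).trans ?_
    rw [← index_eq_card]
    exact relIndex_dvd_index_of_le le_normalizer
  have hco : (p ^ k).Coprime H.index :=
    ((coprime_index_of_maximal_nilpotent hCN hH).coprime_dvd_left hd).pow_left k
  have h3 := orderOf_eq_one_iff.1 (Nat.eq_one_of_dvd_coprimes hco h1 h2)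
  exact mem_subgroupOf.1 ((QuotientGroup.eq_one_iff _).1 h3)

/-- Gorenstein 14.2.3: a maximal nilpotent subgroup which is not a prime power group is TI. -/
theorem inf_conj_eq_bot_of_not_primePow (hCN : Cfsg.IsCNGroup G) {H : Subgroup G}
    (hH : IsMaxNilpotent H) (hnp : ¬ IsPrimePow (Nat.card H)) : IsTIConj H := by
  intro g hg
  set K := H.map (MulAut.conj g).toMonoidHom with hK
  have hKm : IsMaxNilpotent K := isMaxNilpotent_map_conj hH g
  rw [eq_bot_iff]
  intro x₀ hx₀
  by_contra hx₀1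
  apply hg
  obtain ⟨p, hp, hpd⟩ := Nat.exists_prime_and_dvd (n := orderOf x₀)
    (fun h => hx₀1 (mem_bot.2 (orderOf_eq_one_iff.1 h)))
  set x := x₀ ^ (orderOf x₀ / p)
  have hxo : orderOf x = p := orderOf_pow_orderOf_div (orderOf_pos x₀).ne' hpd
  have hxH : x ∈ H := pow_mem (mem_inf.1 hx₀).1 _
  have hxK : x ∈ K := pow_mem (mem_inf.1 hx₀).2 _
  -- elements of one prime order give the components for the other primes
  have key : ∀ {q : ℕ}, q.Prime → ∀ w : G, w ∈ H → w ∈ K → orderOf w = q → ∀ t : ℕ, t.Prime →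
      t ≠ q → ∀ u k, u ∈ K → orderOf u = t ^ k → t ∣ Nat.card H → u ∈ H := by
    intro q hq w hwH hwK hwo t ht htq u k hu huo htd
    haveI := Fact.mk ht
    obtain ⟨S, hS⟩ := sylow_le_of_maximal_nilpotent hCN hH htd
    have hw1 : w ≠ 1 := fun h => by rw [h, orderOf_one] at hwo; exact hq.one_lt.ne hwo
    have hcl : ∀ {A : Subgroup G}, Group.IsNilpotent A → w ∈ A → ∀ s ∈ A, ∀ j : ℕ,
        orderOf s = t ^ j → s ∈ centralizer ({w} : Set G) := fun hA hwA s hs j hso =>
      mem_centralizer_singleton_iff.2 (NilpotentCover.commute_of_coprime_mem hA hs hwA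
        (by rw [hso, hwo]; exact ((Nat.coprime_primes ht hq).2 htq).pow_left j)).eq
    have hSC : (S : Subgroup G) ≤ centralizer ({w} : Set G) := fun s hs => by
      obtain ⟨j, hj⟩ := IsPGroup.iff_orderOf.1 S.isPGroup' ⟨s, hs⟩
      rw [Subgroup.orderOf_mk] at hj
      exact hcl hH.1 hwH s (hS hs) j hj
    obtain ⟨P, hPC, hPp, hPall, -⟩ := NilpotentCover.exists_pGroup_of_mem (p := t) (hCN w hw1)
    have hSP : (S : Subgroup G) ≤ P := fun s hs => by
      obtain ⟨j, hj⟩ := IsPGroup.iff_orderOf.1 S.isPGroup' ⟨s, hs⟩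
      rw [Subgroup.orderOf_mk] at hj
      exact hPall s (hSC hs) ⟨j, hj⟩
    have hPS : P = (S : Subgroup G) := S.is_maximal' hPp hSP
    exact hS (hPS ▸ hPall u (hcl hKm.1 hwK u hu k huo) ⟨k, huo⟩)
  obtain ⟨q, hq, hqd, hqp⟩ : ∃ q : ℕ, q.Prime ∧ q ∣ Nat.card H ∧ q ≠ p := by
    by_contra! h
    refine hnp ((isPrimePow_nat_iff _).2 ⟨p, _, hp, ?_,
      (Nat.eq_prime_pow_of_unique_prime_dvd Nat.card_pos.ne' fun {d} hd hdd => h d hd hdd).symm⟩)
    exact List.length_pos_iff.2 fun he => (by
      have := (Nat.primeFactorsList_eq_nil _).1 he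
      have h1 : p ∣ Nat.card H := hxo ▸ Subgroup.orderOf_dvd_natCard H hxH
      have := Nat.le_of_dvd Nat.card_pos h1
      have := hp.two_le
      omega)
  haveI := Fact.mk hq
  obtain ⟨⟨z, hzK⟩, hz⟩ := exists_prime_orderOf_dvd_card' (G := K) q (by
    rw [hK, card_map_of_injective (MulAut.conj g).injective]; exact hqd)
  rw [Subgroup.orderOf_mk] at hz
  have hzH : z ∈ H := key hp x hxH hxK hxo q hq hqp z 1 hzK (by rw [hz, pow_one]) hqd
  refine eq_of_le_of_card_ge (fun u hu => mem_of_prime_pow_mem fun t k ht y hy hyo => ?_)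
    (by rw [hK, card_map_of_injective (MulAut.conj g).injective])
  rcases Nat.eq_zero_or_pos k with rfl | hk
  · rw [orderOf_eq_one_iff.1 (hyo.trans (pow_zero t))]; exact one_mem H
  have hyK : y ∈ K := zpowers_le.2 hu hy
  have htd : t ∣ Nat.card H := by
    have h := Subgroup.orderOf_dvd_natCard K hyK
    rw [hK, card_map_of_injective (MulAut.conj g).injective] at h
    exact (hyo ▸ dvd_pow_self t hk.ne').trans h
  by_cases htp : t = p
  · exact key hq z hzH hzK hz t ht (htp ▸ Ne.symm hqp) y k hyK hyo htd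
  · exact key hp x hxH hxK hxo t ht htp y k hyK hyo htd

/-- The centralisers of the non-identity elements of a TI maximal nilpotent subgroup lie in it. -/
theorem centralizer_le_of_ti (hCN : Cfsg.IsCNGroup G) {H : Subgroup G} (hH : IsMaxNilpotent H)
    (hti : IsTIConj H) {x : G} (hx : x ∈ H) (hx1 : x ≠ 1) :
    centralizer ({x} : Set G) ≤ H := by
  intro y₀ hy₀
  refine mem_of_prime_pow_mem fun q k hq y hy hyo => ?_
  haveI := Fact.mk hq
  have hyc : Commute y x := mem_centralizer_singleton_iff.1 (zpowers_le.2 hy₀ hy)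
  have hyN : y ∈ normalizer (H : Set G) := by
    rw [mem_normalizer_iff_map_conj_eq]
    by_contra h
    have hmem : x ∈ H ⊓ H.map (MulAut.conj y).toMonoidHom :=
      ⟨hx, x, hx, by simp [hyc.eq]⟩
    exact hx1 (mem_bot.1 ((hti y h).le hmem))
  by_cases hqd : q ∣ Nat.card H
  · exact mem_of_mem_normalizer hCN hH hq hqd hyN hyo
  -- otherwise `y` centralises `H`
  have hcoH : ∀ u ∈ H, (orderOf u).Coprime (orderOf y) := fun u hu => by
    rw [hyo]
    exact (((hq.coprime_iff_not_dvd.2 hqd).symm).coprime_dvd_left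
      (Subgroup.orderOf_dvd_natCard H hu)).pow_right k
  obtain ⟨p, hp, hpd⟩ := Nat.exists_prime_and_dvd (n := orderOf x)
    (fun h => hx1 (orderOf_eq_one_iff.1 h))
  haveI := Fact.mk hp
  set x' := x ^ (orderOf x / p)
  have hxo : orderOf x' = p := orderOf_pow_orderOf_div (orderOf_pos x).ne' hpd
  have hx'H : x' ∈ H := pow_mem hx _
  have hx'1 : x' ≠ 1 := fun h => by rw [h, orderOf_one] at hxo; exact hp.one_lt.ne hxo
  have hyx' : Commute y x' := hyc.pow_right _
  have hHc : H ≤ centralizer ({y} : Set G) := by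
    intro u hu
    refine mem_of_prime_pow_mem fun t j ht w hw hwo => mem_centralizer_singleton_iff.2 ?_
    have hwH : w ∈ H := zpowers_le.2 hu hw
    by_cases htp : t = p
    · subst htp
      obtain ⟨P, -, hPp, hPall, -⟩ := NilpotentCover.exists_pGroup_of_mem (p := t) hH.1
      exact mem_centralizer_of_commute hCN hPp (hPall x' hx'H ⟨1, by rw [hxo, pow_one]⟩) hx'1
        (hxo ▸ (hcoH x' hx'H).symm) hyx'.symm w (hPall w hwH ⟨j, hwo⟩)
    · exact (commute_of_coprime hCN hx'1 (NilpotentCover.commute_of_coprime_mem hH.1 hwH hx'H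
        (by rw [hwo, hxo]; exact ((Nat.coprime_primes ht hp).2 htp).pow_left j))
        hyx' (hcoH w hwH)).eq
  have hle : zpowers y ≤ centralizer (H : Set G) :=
    zpowers_le.2 fun u hu => mem_centralizer_singleton_iff.1 (hHc hu)
  have hn : Group.IsNilpotent ↥(H ⊔ zpowers y) := by
    have hc : ∀ (a : H) (b : zpowers y), Commute (H.subtype a) ((zpowers y).subtype b) :=
      fun a b => (hle b.2) a a.2
    haveI := hH.1
    haveI := (isPGroup_zpowers hyo).isNilpotent
    have hr : (MonoidHom.noncommCoprod H.subtype (zpowers y).subtype hc).range = H ⊔ zpowers y := by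
      rw [MonoidHom.noncommCoprod_range, range_subtype, range_subtype]
    rw [← hr]
    exact Group.nilpotent_of_surjective _ (MonoidHom.rangeRestrict_surjective _)
  exact (hH.2 _ hn le_sup_left) ▸ mem_sup_right (mem_zpowers y)

/-- Two TI maximal nilpotent subgroups meeting nontrivially coincide. -/
theorem eq_of_inf_ne_bot (hCN : Cfsg.IsCNGroup G) {H K : Subgroup G} (hH : IsMaxNilpotent H)
    (hti : IsTIConj H) (hK : IsMaxNilpotent K) (htiK : IsTIConj K) (hne : H ⊓ K ≠ ⊥) : H = K := by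
  obtain ⟨x, hx, hx1⟩ := (H ⊓ K).bot_or_exists_ne_one.resolve_left hne
  obtain ⟨z, hz, hz1, hzc⟩ := NilpotentCover.exists_central hH.1 (mem_inf.1 hx).1 hx1
  have hzK : z ∈ K := centralizer_le_of_ti hCN hK htiK (mem_inf.1 hx).2 hx1
    (mem_centralizer_singleton_iff.2 (hzc x (mem_inf.1 hx).1))
  refine (hH.2 K hK.1 fun u hu => centralizer_le_of_ti hCN hK htiK hzK hz1 ?_).symm
  exact mem_centralizer_singleton_iff.2 (hzc u hu).symm

end CfsgLib.OddOrder.CN
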