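import Cfsg.Prelude.Def_LieExceptional
import Cfsg.Agent.Coprime.Action
import Cfsg.Agent.NilpotentCover.Basic
import Cfsg.Agent.Solvable.Basic
import Mathlib.GroupTheory.Nilpotent
import Mathlib.Tactic

/-!
# CN-groups: basic facts (Gorenstein, 14.1)

* `mem_centralizer_of_commute`: in a CN-group an element of order prime to `p` centralising a
  non-identity element of a `p`-subgroup `P` centralises `P`.
* `isCNGroup_quotient`: a quotient of a CN-group by a solvable normal subgroup is a CN-group.
-/

set_option autoImplicit false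
set_option linter.style.haveILetI false

namespace CfsgLib.OddOrder.CN

open Subgroup

variable {G : Type*} [Group G]

theorem isNilpotent_of_le {A B : Subgroup G} (h : A ≤ B) (hB : Group.IsNilpotent B) :
    Group.IsNilpotent A := by
  haveI := hB
  exact Group.nilpotent_of_mulEquiv (subgroupOfEquivOfLe h)

theorem isCNGroup_of_injective {H : Type*} [Group H] (f : H →* G) (hf : Function.Injective f)
    (hCN : Cfsg.IsCNGroup G) : Cfsg.IsCNGroup H := by
  intro h hh
  have hle : (centralizer ({h} : Set H)).map f ≤ centralizer ({f h} : Set G) := by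
    rintro _ ⟨x, hx, rfl⟩
    rw [mem_centralizer_singleton_iff, ← map_mul, ← map_mul,
      mem_centralizer_singleton_iff.mp hx]
  haveI := isNilpotent_of_le hle (hCN (f h) fun e => hh (hf (e.trans (map_one f).symm)))
  exact Group.nilpotent_of_mulEquiv ((centralizer ({h} : Set H)).equivMapOfInjective f hf).symm

theorem isCNGroup_subgroup (hCN : Cfsg.IsCNGroup G) (H : Subgroup G) : Cfsg.IsCNGroup H :=
  isCNGroup_of_injective H.subtype H.subtype_injective hCN

theorem coprime_orderOf_of_isPGroup {p : ℕ} [Fact p.Prime] {P : Subgroup G} (hP : IsPGroup p P)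
    {x : G} (hx : x ∈ P) {n : ℕ} (hn : n.Coprime p) : (orderOf x).Coprime n := by
  obtain ⟨k, hk⟩ := IsPGroup.iff_orderOf.mp hP ⟨x, hx⟩
  rw [Subgroup.orderOf_mk] at hk
  rw [hk]
  exact (hn.symm).pow_left k

theorem mem_centralizer_iff_commute {H : Subgroup G} {y : G} :
    y ∈ centralizer (H : Set G) ↔ ∀ x ∈ H, Commute x y := Iff.rfl

variable [Finite G]

/-- Coprime elements of the centraliser of a non-identity element commute. -/
theorem commute_of_coprime (hCN : Cfsg.IsCNGroup G) {x a b : G} (hx : x ≠ 1) (ha : Commute a x)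
    (hb : Commute b x) (hco : (orderOf a).Coprime (orderOf b)) : Commute a b :=
  NilpotentCover.commute_of_coprime_mem (hCN x hx) (mem_centralizer_singleton_iff.mpr ha.eq)
    (mem_centralizer_singleton_iff.mpr hb.eq) hco

/-- An element of order prime to `p` centralising a non-identity element of the `p`-subgroup `P`
centralises `P`. -/
theorem mem_centralizer_of_commute (hCN : Cfsg.IsCNGroup G) {p : ℕ} [Fact p.Prime]
    {P : Subgroup G} (hP : IsPGroup p P) {x y : G} (hx : x ∈ P) (hx1 : x ≠ 1)
    (hy : (orderOf y).Coprime p) (h : Commute x y) : y ∈ centralizer (P : Set G) := by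
  haveI : Nontrivial P := ⟨⟨x, hx⟩, 1, fun e => hx1 (congrArg Subtype.val e)⟩
  haveI := hP.center_nontrivial
  obtain ⟨⟨z, hz⟩, hz1⟩ := exists_ne (1 : center P)
  have hzne : (z : G) ≠ 1 := fun e => hz1 (Subtype.ext (Subtype.ext e))
  have hzc : ∀ u ∈ P, Commute (z : G) u := fun u hu =>
    (congrArg Subtype.val (mem_center_iff.mp hz ⟨u, hu⟩)).symm
  have hzy : Commute (z : G) y := commute_of_coprime hCN hx1 (hzc x hx) h.symm
    (coprime_orderOf_of_isPGroup hP z.2 hy)
  intro u hu
  exact commute_of_coprime hCN hzne (hzc u hu).symm hzy.symm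
    (coprime_orderOf_of_isPGroup hP hu hy)

omit [Finite G] in
theorem isPGroup_zpowers {p : ℕ} {x : G} {k : ℕ} (hx : orderOf x = p ^ k) [Fact p.Prime] :
    IsPGroup p (zpowers x) :=
  IsPGroup.of_card (n := k) (by rw [Nat.card_zpowers, hx])

/-- Among the powers of `g` there is a prime power lift of a prime power image. -/
theorem exists_prime_pow_lift {H : Type*} [Group H] (f : G →* H) (g : G) {q k : ℕ} (hq : q.Prime)
    (h : orderOf (f g) = q ^ k) : ∃ g' ∈ zpowers g, f g' = f g ∧ ∃ j, orderOf g' = q ^ j := by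
  have hn : orderOf g ≠ 0 := (orderOf_pos g).ne'
  set j := (orderOf g).factorization q with hj
  set m := orderOf g / q ^ j with hm
  have hmul : q ^ j * m = orderOf g := Nat.ordProj_mul_ordCompl_eq_self _ _
  have hco : m.Coprime (orderOf (f g)) := by
    rw [h]
    exact (Nat.coprime_ordCompl hq hn).symm.pow_right k
  obtain ⟨u, hu⟩ := exists_pow_eq_self_of_coprime hco
  refine ⟨(g ^ m) ^ u, pow_mem (pow_mem (mem_zpowers g) m) u, by rw [map_pow, map_pow, hu], ?_⟩
  obtain ⟨i, -, hi⟩ := (Nat.dvd_prime_pow hq).mp ((orderOf_dvd_of_pow_eq_one (by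
    rw [← pow_mul, ← pow_mul, show m * (u * q ^ j) = (q ^ j * m) * u by ring, hmul, pow_mul,
      pow_orderOf_eq_one, one_pow]) : orderOf ((g ^ m) ^ u) ∣ q ^ j))
  exact ⟨i, hi⟩

/-- An element is in `H` when its prime power parts are. -/
theorem mem_of_prime_pow_mem {H : Subgroup G} {x : G}
    (h : ∀ q k : ℕ, q.Prime → ∀ y ∈ zpowers x, orderOf y = q ^ k → y ∈ H) : x ∈ H := by
  suffices hle : zpowers x ≤ H from hle (mem_zpowers x)
  have hdvd : Nat.card (zpowers x) ∣ Nat.card (zpowers x ⊓ H : Subgroup G) := by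
    rw [Nat.dvd_iff_prime_pow_dvd_dvd]
    intro q k hq hd
    rw [Nat.card_zpowers] at hd
    have hy : orderOf (x ^ (orderOf x / q ^ k)) = q ^ k :=
      orderOf_pow_orderOf_div (orderOf_pos x).ne' hd
    have hmem : x ^ (orderOf x / q ^ k) ∈ zpowers x := pow_mem (mem_zpowers x) _
    rw [← hy, ← Nat.card_zpowers]
    exact card_dvd_of_le (zpowers_le.mpr (mem_inf.mpr ⟨hmem, h q k hq _ hmem hy⟩))
  exact inf_eq_left.mp (eq_of_le_of_card_ge inf_le_left (Nat.le_of_dvd Nat.card_pos hdvd))

/-- A finite group in which elements of coprime prime power orders commute is nilpotent. -/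
theorem isNilpotent_of_commute {X : Type*} [Group X] [Finite X]
    (h : ∀ a b : X, ∀ p q i j : ℕ, p.Prime → q.Prime → p ≠ q → orderOf a = p ^ i →
      orderOf b = q ^ j → Commute a b) : Group.IsNilpotent X := by
  refine ((Group.isNilpotent_of_finite_tfae (G := X)).out 0 3).mpr ?_
  intro p hp P
  rw [← normalizer_eq_top_iff]
  refine eq_top_of_le_card _ (Nat.le_of_dvd Nat.card_pos ?_)
  rw [Nat.dvd_iff_prime_pow_dvd_dvd]
  intro q k hq hd
  by_cases hqp : q = p
  · subst hqp
    exact (P.pow_dvd_card_of_pow_dvd_card hd).trans (card_dvd_of_le le_normalizer)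
  haveI := Fact.mk hq
  obtain ⟨K, hK⟩ := Sylow.exists_subgroup_card_pow_prime (G := X) q hd
  rw [← hK]
  refine card_dvd_of_le (le_trans (fun y hy => ?_) (centralizer_le_normalizer _))
  intro x hx
  obtain ⟨i, hi⟩ := IsPGroup.iff_orderOf.mp P.2 ⟨x, hx⟩
  obtain ⟨j, -, hj⟩ := (Nat.dvd_prime_pow hq).mp (hK ▸ Subgroup.orderOf_dvd_natCard K hy)
  rw [Subgroup.orderOf_mk] at hi
  exact h x y p q i j hp.out hq (Ne.symm hqp) hi hj

/-- The quotient of a CN-group by a nontrivial normal `p`-subgroup is a CN-group. -/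
theorem isCNGroup_quotient_pGroup (hCN : Cfsg.IsCNGroup G) {p : ℕ} [hp : Fact p.Prime]
    (V : Subgroup G) [V.Normal] (hV : IsPGroup p V) : Cfsg.IsCNGroup (G ⧸ V) := by
  intro γ₀ hγ₀
  set f := QuotientGroup.mk' V with hf
  obtain ⟨r, hr, hrd⟩ := Nat.exists_prime_and_dvd (n := orderOf γ₀)
    (fun h => hγ₀ (orderOf_eq_one_iff.mp h))
  set γ := γ₀ ^ (orderOf γ₀ / r) with hγdef
  have hγ : orderOf γ = r := orderOf_pow_orderOf_div (orderOf_pos γ₀).ne' hrd
  haveI := Fact.mk hr
  obtain ⟨g₀, hg₀⟩ := QuotientGroup.mk'_surjective V γ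
  obtain ⟨g, -, hg', j, hj⟩ := exists_prime_pow_lift f g₀ (k := 1) hr (by rw [hg₀, hγ, pow_one])
  have hfg : f g = γ := hg'.trans hg₀
  have hgV : g ∉ V := fun h => by
    have h1 : γ = 1 := hfg ▸ (QuotientGroup.eq_one_iff g).mpr h
    rw [h1, orderOf_one] at hγ
    exact hr.one_lt.ne hγ
  refine isNilpotent_of_le (B := centralizer ({γ} : Set (G ⧸ V))) (fun c hc => ?_) ?_
  · rw [mem_centralizer_singleton_iff] at hc ⊢
    exact ((show Commute c γ₀ from hc).pow_right _).eq
  set D := centralizer ({γ} : Set (G ⧸ V))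
  have hcommV : ∀ k : G, f k ∈ D → ∀ a ∈ zpowers g, k⁻¹ * (a * k * a⁻¹) ∈ V := by
    rintro k hk _ ⟨i, rfl⟩
    rw [← QuotientGroup.eq_one_iff]
    have hc : Commute (f k) (f g ^ i) :=
      (show Commute (f k) (f g) by rw [hfg]; exact mem_centralizer_singleton_iff.mp hk).zpow_right i
    show f (k⁻¹ * (g ^ i * k * (g ^ i)⁻¹)) = 1
    rw [map_mul, map_mul, map_mul, map_inv, map_inv, map_zpow, ← hc.eq]
    group
  by_cases hrp : r = p
  · -- `g` is a `p`-element: `p'`-elements of `D` lift into the centraliser of `V⟨g⟩`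
    subst hrp
    set P₀ := V ⊔ zpowers g with hP₀
    have hP₀p : IsPGroup r P₀ := hV.to_sup_of_normal_left (isPGroup_zpowers hj)
    have hg1 : g ≠ 1 := fun h => hgV (h ▸ one_mem V)
    have hlift : ∀ y : G, (orderOf y).Coprime r → f y ∈ D → y ∈ centralizer (P₀ : Set G) := by
      intro y hy hyD
      obtain ⟨n, hn⟩ := IsPGroup.iff_card.mp hV
      obtain ⟨c, hc, hcV⟩ := Coprime.exists_fixed_mem_coset (A := zpowers y) (N := V)
        le_normalizer_of_normal (by rw [Nat.card_zpowers, hn]; exact hy.pow_right n)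
        (Or.inr (by haveI := hV.isNilpotent; infer_instance)) (k := g) (by
          rintro _ ⟨i, rfl⟩
          rw [← QuotientGroup.eq_one_iff]
          have hc : Commute (f y ^ i) (f g) :=
            (show Commute (f y) (f g) by rw [hfg]; exact mem_centralizer_singleton_iff.mp hyD).zpow_left i
          show f (g⁻¹ * (y ^ i * g * (y ^ i)⁻¹)) = 1
          rw [map_mul, map_mul, map_mul, map_inv, map_inv, map_zpow, hc.eq]
          group)
      have hcP : c ∈ P₀ := by
        have := mul_mem (mem_sup_right (mem_zpowers g) : g ∈ P₀) (mem_sup_left hcV)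
        rwa [mul_inv_cancel_left] at this
      have hc1 : c ≠ 1 := fun h => hgV (by rw [h, mul_one] at hcV; exact inv_mem_iff.mp hcV)
      exact mem_centralizer_of_commute hCN hP₀p hcP hc1 hy (hc y (mem_zpowers y)).symm
    refine isNilpotent_of_commute fun a b s t i i' hs ht hst ha hb => ?_
    obtain ⟨a₀, ha₀⟩ := QuotientGroup.mk'_surjective V (a : G ⧸ V)
    obtain ⟨a', -, ha', ia, hia⟩ := exists_prime_pow_lift f a₀ hs
      (by rw [ha₀, orderOf_coe]; exact ha)
    obtain ⟨b₀, hb₀⟩ := QuotientGroup.mk'_surjective V (b : G ⧸ V)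
    obtain ⟨b', -, hb', ib, hib⟩ := exists_prime_pow_lift f b₀ ht
      (by rw [hb₀, orderOf_coe]; exact hb)
    suffices hcomm : Commute a' b' by
      refine Subtype.ext ?_
      show (a : G ⧸ V) * b = b * a
      rw [← ha₀, ← hb₀, ← ha', ← hb']
      exact (hcomm.map f).eq
    have haD : f a' ∈ D := by rw [ha', ha₀]; exact a.2
    have hbD : f b' ∈ D := by rw [hb', hb₀]; exact b.2
    -- a commuting pair from one element of order prime to `r`
    have key : ∀ x y : G, (orderOf x).Coprime (orderOf y) → (orderOf x).Coprime r → f x ∈ D →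
        f y ∈ D → ((orderOf y).Coprime r ∨ IsPGroup r (zpowers y)) → Commute x y := by
      intro x y hxy hx hxD hyD hy
      have hgx : Commute g x := hlift x hx hxD g (mem_sup_right (mem_zpowers g))
      rcases hy with hy | hy
      · exact commute_of_coprime hCN hg1 hgx.symm
          (show Commute g y from hlift y hy hyD g (mem_sup_right (mem_zpowers g))).symm hxy
      · have hyN : y ∈ normalizer (P₀ : Set G) := by
          refine mem_normalizer_fintype (S := (P₀ : Set G)) fun u hu => ?_
          have hle : P₀ ≤ P₀.comap (MulAut.conj y).toMonoidHom := by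
            refine sup_le (fun v hv => mem_sup_left ((inferInstance : V.Normal).conj_mem v hv y))
              (zpowers_le.mpr ?_)
            show y * g * y⁻¹ ∈ P₀
            have h1 : g⁻¹ * (y * g * y⁻¹) ∈ V := by
              rw [← QuotientGroup.eq_one_iff]
              show f (g⁻¹ * (y * g * y⁻¹)) = 1
              rw [map_mul, map_mul, map_mul, map_inv, map_inv, hfg,
                mem_centralizer_singleton_iff.mp hyD]
              group
            have := mul_mem (mem_sup_right (mem_zpowers g) : g ∈ P₀) (mem_sup_left h1)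
            rwa [mul_inv_cancel_left] at this
          exact hle hu
        have hP1 : IsPGroup r ↥(P₀ ⊔ zpowers y) :=
          hP₀p.to_sup_of_normal_left' hy (zpowers_le.mpr hyN)
        exact (mem_centralizer_of_commute hCN hP1 (mem_sup_left (mem_sup_right (mem_zpowers g)))
          hg1 hx hgx y (mem_sup_right (mem_zpowers y))).symm
    have hco : (orderOf a').Coprime (orderOf b') := by
      rw [hia, hib]; exact Nat.coprime_pow_primes _ _ hs ht hst
    by_cases hsr : s = r
    · refine (key b' a' hco.symm ?_ hbD haD (Or.inr ?_)).symm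
      · rw [hib]; exact ((Nat.coprime_primes ht hr).mpr (hsr ▸ hst.symm)).pow_left _
      · subst hsr; exact isPGroup_zpowers hia
    · refine key a' b' hco ?_ haD hbD ?_
      · rw [hia]; exact ((Nat.coprime_primes hs hr).mpr hsr).pow_left _
      · by_cases htr : t = r
        · subst htr; exact Or.inr (isPGroup_zpowers hib)
        · exact Or.inl (by rw [hib]; exact ((Nat.coprime_primes ht hr).mpr htr).pow_left _)
  · -- `g` has order prime to `p`: `D` is the image of `C(g)`
    have hle : D ≤ (centralizer ({g} : Set G)).map f := by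
      intro c hc
      obtain ⟨k, rfl⟩ := QuotientGroup.mk'_surjective V c
      obtain ⟨n, hn⟩ := IsPGroup.iff_card.mp hV
      obtain ⟨c', hc', hcV⟩ := Coprime.exists_fixed_mem_coset (A := zpowers g) (N := V)
        le_normalizer_of_normal
        (by rw [Nat.card_zpowers, hj, hn]; exact Nat.coprime_pow_primes _ _ hr hp.out hrp)
        (Or.inr (by haveI := hV.isNilpotent; infer_instance)) (k := k) (hcommV k hc)
      exact ⟨c', mem_centralizer_singleton_iff.mpr (hc' g (mem_zpowers g)).symm,
        (QuotientGroup.eq.mpr hcV).symm⟩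
    refine isNilpotent_of_le hle ?_
    haveI := hCN g fun h => hgV (h ▸ one_mem V)
    exact Group.nilpotent_of_surjective (f.subgroupMap _) (f.subgroupMap_surjective _)

/-- The quotient of a CN-group by a solvable normal subgroup is a CN-group. -/
theorem isCNGroup_quotient {G : Type*} [Group G] [Finite G] (hCN : Cfsg.IsCNGroup G)
    (H : Subgroup G) [H.Normal] (hH : Group.IsSolvable H) : Cfsg.IsCNGroup (G ⧸ H) := by
  induction hn : Nat.card G using Nat.strong_induction_on generalizing G with
  | _ n ih =>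
    rcases eq_or_ne H ⊥ with hbot | hne
    · subst hbot
      exact isCNGroup_of_injective QuotientGroup.quotientBot.toMonoidHom
        QuotientGroup.quotientBot.injective hCN
    obtain ⟨V, hVn, hV1, hVH, hmin⟩ := Solvable.exists_minimal_normal_le (inferInstance : H.Normal) hne
    haveI := hVn
    haveI : Group.IsSolvable V := by
      haveI := hH
      exact Group.isSolvable_of_isSolvable_injective (inclusion_injective hVH)
    obtain ⟨p, hp, hVp⟩ := Solvable.exists_isPGroup_of_minimal_normal hV1 hmin
    haveI := Fact.mk hp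
    have hCN' := isCNGroup_quotient_pGroup hCN V hVp
    have hlt : Nat.card (G ⧸ V) < n := by
      rw [← hn, card_eq_card_quotient_mul_card_subgroup V]
      exact lt_mul_of_one_lt_right Nat.card_pos (V.one_lt_card_iff_ne_bot.mpr hV1)
    haveI := hH
    have h := ih _ hlt hCN' (H.map (QuotientGroup.mk' V))
      (Group.isSolvable_of_surjective ((QuotientGroup.mk' V).subgroupMap_surjective H)) rfl
    let e := QuotientGroup.quotientQuotientEquivQuotient V H hVH
    exact isCNGroup_of_injective e.symm.toMonoidHom e.symm.injective h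

end CfsgLib.OddOrder.CN
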