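import Cfsg.Agent.OddOrder.CN.Basic
import Cfsg.Agent.OddOrder.BG3.KernelNilpotent
import Cfsg.Agent.PLocal.Cores
import Cfsg.Prelude.Def_OddOrderLocal

/-!
# Three-step groups with nilpotent centralisers

* `threeStep_eq_one_of_centralizes`: an element of order prime to `p` centralising `O_p` is trivial.
* `threeStep_pPrimeCore_eq_bot`.
* `threeStep_false_of_nilpotent_ker`: a three-step CN-group is not nilpotent by nilpotent.
-/

set_option autoImplicit false
set_option linter.style.haveILetI false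

namespace CfsgLib.OddOrder.CN

open Subgroup
open scoped commutatorElement

variable {X : Type*} [Group X] [Finite X] {p : ℕ}

omit [Finite X] in
/-- An element of order prime to `p` centralising `O_p` of a three-step group is trivial. -/
theorem threeStep_eq_one_of_centralizes (h : Cfsg.IsThreeStepGroup p X) {z : X}
    (hz : (orderOf z).Coprime p) (hc : ∀ u ∈ Cfsg.pCore p X, Commute z u) : z = 1 := by
  obtain ⟨hP, A, -, -, -, -, hn, -, ⟨n, hi⟩, hfpf, -⟩ := h
  set P := Cfsg.pCore p X with hPdef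
  haveI := hn
  haveI : P.Normal := Solvable.pCore_normal p
  have h1 : z ∈ P ⊔ A := by
    rw [← QuotientGroup.eq_one_iff, ← orderOf_eq_one_iff]
    refine Nat.eq_one_of_dvd_coprimes (hz.pow_right n) (orderOf_map_dvd (QuotientGroup.mk' _) z) ?_
    rw [← hi, index_eq_card]
    exact _root_.orderOf_dvd_natCard _
  rw [← SetLike.mem_coe, Subgroup.normal_mul] at h1
  obtain ⟨u, hu, b, hb, rfl⟩ := Set.mem_mul.1 h1
  have hb1 : b = 1 := by
    by_contra hb1
    have hub : Commute b u := by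
      have := (hc u hu).eq
      rw [mul_assoc, mul_right_inj] at this
      exact this
    have hu1 : u = 1 := mem_bot.1 ((hfpf b hb hb1).le
      ⟨hu, mem_centralizer_singleton_iff.2 hub.symm.eq⟩)
    subst hu1
    rw [one_mul] at hc
    exact hP (eq_bot_iff.2 fun v hv => (hfpf b hb hb1).le
      ⟨hv, mem_centralizer_singleton_iff.2 (hc v hv).symm.eq⟩)
  subst hb1
  rw [mul_one] at hz ⊢
  obtain ⟨k, hk⟩ := Solvable.isPGroup_pCore p ⟨u, hu⟩
  refine orderOf_eq_one_iff.1 (Nat.eq_one_of_dvd_coprimes (hz.pow_right k) dvd_rfl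
    (orderOf_dvd_of_pow_eq_one ?_))
  exact congrArg Subtype.val hk

/-- `O_{p'}` of a three-step group is trivial. -/
theorem threeStep_pPrimeCore_eq_bot [Fact p.Prime] (h : Cfsg.IsThreeStepGroup p X) :
    Cfsg.pPrimeCore p X = ⊥ := by
  have hco := PLocal.coprime_card_pPrimeCore p X
  have hdis : Disjoint (Cfsg.pPrimeCore p X) (Cfsg.pCore p X) :=
    (disjoint_iff.2 (PLocal.disjoint_of_isPGroup_of_coprime (Solvable.isPGroup_pCore p) hco)).symm
  haveI := Solvable.pCore_normal (G := X) p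
  haveI : (Cfsg.pPrimeCore p X).Normal := Subgroup.sSup_normal _ fun _ h => h.1
  rw [eq_bot_iff]
  intro z hz
  exact mem_bot.2 (threeStep_eq_one_of_centralizes h
    (hco.coprime_dvd_left (Subgroup.orderOf_dvd_natCard _ hz))
    fun u hu => commute_of_normal_of_disjoint _ _ inferInstance inferInstance hdis z u hz hu)

/-- A solvable three-step CN-group has no nilpotent normal subgroup with nilpotent quotient. -/
theorem threeStep_false_of_nilpotent_ker [Group.IsSolvable X] (hCN : Cfsg.IsCNGroup X)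
    (h : Cfsg.IsThreeStepGroup p X) {Q : Type*} [Group Q] [Finite Q] [Group.IsNilpotent Q]
    (ψ : X →* Q) (hN : Group.IsNilpotent ψ.ker) : False := by
  obtain ⟨hP, A, hA, -, -, hAco, hn, hne, ⟨n, hi⟩, hfpf, hcom⟩ := id h
  set P := Cfsg.pCore p X with hPdef
  haveI := hn
  haveI hPn : P.Normal := Solvable.pCore_normal p
  -- `a` of prime order in `A`
  obtain ⟨a₀, ha₀, ha₀1⟩ := (bot_or_exists_ne_one A).resolve_left hA
  obtain ⟨q, hq, hqd⟩ := Nat.exists_prime_and_dvd (n := orderOf a₀)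
    (fun e => ha₀1 (orderOf_eq_one_iff.1 e))
  set a := a₀ ^ (orderOf a₀ / q)
  have hao : orderOf a = q := orderOf_pow_orderOf_div (orderOf_pos a₀).ne' hqd
  have ha : a ∈ A := pow_mem ha₀ _
  have ha1 : a ≠ 1 := fun e => by rw [e, orderOf_one] at hao; exact hq.one_lt.ne hao
  -- a prime power element outside `PA`
  obtain ⟨x₀, -, hx₀⟩ : ∃ x₀ ∈ (⊤ : Subgroup X), x₀ ∉ P ⊔ A :=
    SetLike.exists_of_lt (lt_top_iff_ne_top.2 hne)
  obtain ⟨r, k, hr, x, -, hxo, hx⟩ : ∃ r k : ℕ, r.Prime ∧ ∃ x ∈ zpowers x₀,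
      orderOf x = r ^ k ∧ x ∉ P ⊔ A := by
    by_contra! hcon
    exact hx₀ (mem_of_prime_pow_mem fun r k hr y hy hyo => hcon r k hr y hy hyo)
  have hrp : r ∣ p := by
    by_contra hrp
    refine hx ((QuotientGroup.eq_one_iff x).1 (orderOf_eq_one_iff.1 (Nat.eq_one_of_dvd_coprimes
      (((hr.coprime_iff_not_dvd.2 hrp).pow_left k).pow_right n)
      (hxo ▸ orderOf_map_dvd (QuotientGroup.mk' _) x) ?_)))
    rw [← hi, index_eq_card]
    exact _root_.orderOf_dvd_natCard _
  have hxa : (orderOf (ψ x)).Coprime (orderOf (ψ a)) := by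
    refine (Nat.Coprime.coprime_dvd_left (orderOf_map_dvd ψ x) ?_).coprime_dvd_right
      (orderOf_map_dvd ψ a)
    rw [hxo, hao]
    exact (((hAco.coprime_dvd_left (hao ▸ Subgroup.orderOf_dvd_natCard A ha)).coprime_dvd_right
      hrp).symm.pow_left k)
  set y := x * a * x⁻¹ * a⁻¹ with hy
  have hyN : y ∈ ψ.ker := by
    rw [MonoidHom.mem_ker, hy, map_mul, map_mul, map_mul, map_inv, map_inv,
      (NilpotentCover.commute_of_coprime (ψ x) (ψ a) hxa).eq]
    group
  have hyL : y ∈ P ⊔ A :=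
    mul_mem (hn.conj_mem a (mem_sup_right ha) x) (inv_mem (mem_sup_right ha))
  have hyP : y ∉ P := hcom x hx a ha ha1
  -- a prime power part of `y` outside `P`
  obtain ⟨s, j, hs, z, hz, hzo, hzP⟩ : ∃ s j : ℕ, s.Prime ∧ ∃ z ∈ zpowers y,
      orderOf z = s ^ j ∧ z ∉ P := by
    by_contra! hcon
    exact hyP (mem_of_prime_pow_mem fun r k hr w hw hwo => hcon r k hr w hw hwo)
  have hzN : z ∈ ψ.ker := zpowers_le.2 hyN hz
  have hzL : z ∈ P ⊔ A := zpowers_le.2 hyL hz
  have hsA : s ∣ Nat.card A := by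
    rw [← SetLike.mem_coe, Subgroup.normal_mul] at hzL
    obtain ⟨u, hu, b, hb, hub⟩ := Set.mem_mul.1 hzL
    have e : QuotientGroup.mk' P z = QuotientGroup.mk' P b := by
      rw [← hub, map_mul, show QuotientGroup.mk' P u = 1 from (QuotientGroup.eq_one_iff u).2 hu,
        one_mul]
    by_contra hsd
    refine hzP ((QuotientGroup.eq_one_iff z).1 (orderOf_eq_one_iff.1 (Nat.eq_one_of_dvd_coprimes
      ((hs.coprime_iff_not_dvd.2 hsd).pow_left j)
      (hzo ▸ orderOf_map_dvd (QuotientGroup.mk' P) z) ?_)))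
    show orderOf (QuotientGroup.mk' P z) ∣ _
    rw [e]
    exact (orderOf_map_dvd _ _).trans (Subgroup.orderOf_dvd_natCard A hb)
  have hzco : (orderOf z).Coprime p := hzo ▸ ((hAco.coprime_dvd_left hsA).pow_left j)
  refine hzP ((threeStep_eq_one_of_centralizes h hzco fun u hu => ?_) ▸ one_mem P)
  by_cases hNP : ψ.ker ⊓ P = ⊥
  · exact commute_of_normal_of_disjoint _ _ (MonoidHom.normal_ker ψ) hPn (disjoint_iff.2 hNP)
      z u hzN hu
  -- otherwise use a central element of `P`
  obtain ⟨w, hw, hw1⟩ := (bot_or_exists_ne_one _).resolve_left hNP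
  obtain ⟨hwN, hwP⟩ := mem_inf.1 hw
  have hPnil : Group.IsNilpotent P := OddOrder.isNilpotent_of_prime_fpf (R := zpowers a)
    inferInstance le_normalizer_of_normal (by rw [Nat.card_zpowers, hao]; exact hq)
    (le_bot_iff.1 ((inf_le_inf_left P (centralizer_le (Set.singleton_subset_iff.2
      (mem_zpowers a)))).trans (hfpf a ha ha1).le))
  have hPco : ∀ v ∈ P, (orderOf v).Coprime (orderOf z) := fun v hv => by
    obtain ⟨i, hi'⟩ := Solvable.isPGroup_pCore p ⟨v, hv⟩
    exact ((hzco.symm).pow_left i).coprime_dvd_left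
      (orderOf_dvd_of_pow_eq_one (congrArg Subtype.val hi'))
  have hwz : Commute z w := NilpotentCover.commute_of_coprime_mem hN hzN hwN (hPco w hwP).symm
  obtain ⟨c, hc, hc1, hcc⟩ := NilpotentCover.exists_central hPnil hwP hw1
  have hcz : Commute c z := commute_of_coprime hCN hw1 (hcc w hwP) hwz (hPco c hc)
  exact (commute_of_coprime hCN hc1 (hcc u hu).symm hcz.symm (hPco u hu)).symm

end CfsgLib.OddOrder.CN
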