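import Cfsg.Agent.S1458
import Cfsg.Agent.OddOrder.BG6Fusion
import Cfsg.Agent.OddOrder.Setup
import Cfsg.Agent.ConjFunctor.LocalGlobal
import Cfsg.Agent.SolvCrit.ZJBasic
import Cfsg.Agent.PLocal.Cores

/-!
# Transfer into `N(Z(J(S)))` in a minimal simple group of odd order

* `sylow_le_commutator_normalizer_zj`: a Sylow subgroup `S` lies in the derived group of
  `N(Z(J(S)))` (control of transfer by the Glauberman functor).
-/

set_option autoImplicit false
set_option linter.style.haveILetI false

namespace CfsgLib.OddOrder.CN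

open Subgroup
open scoped commutatorElement
open CfsgLib.ConjFunctor (IsSylowIn exists_isSylowIn_ge familyTransfer_of_local transferGen
  familyControlsTransferIn_iff isSylowIn_top)

variable {G : Type*} [Group G] [Finite G] {p : ℕ}

theorem isConjugacyFunctor_centerThompson [Fact p.Prime] :
    Cfsg.IsConjugacyFunctor p (fun P : Subgroup G => Cfsg.centerThompsonOf p P) := fun P hP =>
  ⟨SolvCrit.centerThompson_le p P, SolvCrit.centerThompson_ne_bot hP,
    fun g => (SolvCrit.map_centerThompson (MulAut.conj g).toMonoidHom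
      (MulAut.conj g).injective p P).symm⟩

/-- In a solvable group of odd order `Z(J(S))` gives `S ∩ H' = S ∩ N_H(Z(J(S)))'`. -/
theorem sylow_inf_commutator_le [Fact p.Prime] [Group.IsSolvable G] (hodd : Odd (Nat.card G))
    (S : Sylow p G) :
    (S : Subgroup G) ⊓ commutator G ≤
      ⁅normalizer (Cfsg.centerThompsonOf p (S : Subgroup G) : Set G),
        normalizer (Cfsg.centerThompsonOf p (S : Subgroup G) : Set G)⁆ := by
  set Z := Cfsg.centerThompsonOf p (S : Subgroup G) with hZ
  set K := Cfsg.pPrimeCore p G with hK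
  have hKco := PLocal.coprime_card_pPrimeCore p G
  haveI hn : (Z ⊔ K).Normal := Cfsg.Agent.S1458.result hodd p S
  have hZp : IsPGroup p Z := S.isPGroup'.to_le (SolvCrit.centerThompson_le p _)
  let P : Sylow p ↥(Z ⊔ K) := (hZp.comap_subtype (K := Z ⊔ K)).toSylow (by
    intro hd
    have h1 : Z.relIndex (Z ⊔ K) ∣ Nat.card K := by
      have h2 := relIndex_mul_relIndex ⊥ Z (Z ⊔ K) bot_le le_sup_left
      rw [relIndex_bot_left, relIndex_bot_left] at h2
      have h3 := PLocal.card_sup_dvd_mul Z K
      rw [← h2] at h3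
      exact Nat.dvd_of_mul_dvd_mul_left Nat.card_pos h3
    exact ((Fact.out : p.Prime).coprime_iff_not_dvd.1 hKco.symm) (hd.trans h1))
  have hP : (P : Subgroup ↥(Z ⊔ K)).map (Z ⊔ K).subtype = Z := by
    rw [IsPGroup.toSylow_coe]
    exact map_subgroupOf_eq_of_le le_sup_left
  have htop : K ⊔ normalizer (Z : Set G) = ⊤ := by
    have h := Sylow.normalizer_sup_eq_top P
    rw [← SetLike.coe_set_eq] at hP
    have hP' : normalizer (((P : Subgroup ↥(Z ⊔ K)).map (Z ⊔ K).subtype : Subgroup G) : Set G) =
        normalizer (Z : Set G) := by rw [hP]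
    rw [hP'] at h
    rw [eq_top_iff, ← h]
    exact sup_le le_sup_right (sup_le (le_normalizer.trans le_sup_right) le_sup_left)
  have hSN : (S : Subgroup G) ≤ normalizer (Z : Set G) :=
    le_normalizer.trans (SolvCrit.normalizer_le_normalizer_centerThompson p _)
  obtain ⟨n, hn'⟩ := IsPGroup.iff_card.1 S.isPGroup'
  rw [supplement_inf_commutator htop hSN (hn' ▸ (hKco.symm.pow_left n))]
  exact inf_le_right

/-- A Sylow subgroup of a minimal simple group of odd order lies in the derived group of the
normalizer of `Z(J(S))`. -/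
theorem sylow_le_commutator_normalizer_zj [Fact p.Prime] (hG : Cfsg.IsMinSimpleOddOrder G)
    (S : Sylow p G) :
    (S : Subgroup G) ≤ ⁅normalizer (Cfsg.centerThompsonOf p (S : Subgroup G) : Set G),
      normalizer (Cfsg.centerThompsonOf p (S : Subgroup G) : Set G)⁆ := by
  set W : Subgroup G → Subgroup G := fun P => Cfsg.centerThompsonOf p P with hW
  have hconj : ∀ V ∈ ({W} : Set (Subgroup G → Subgroup G)), Cfsg.IsConjugacyFunctor p V := by
    intro V hV
    rw [Set.mem_singleton_iff.1 hV]
    exact isConjugacyFunctor_centerThompson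
  have key := familyTransfer_of_local (isSylowIn_top S) hconj fun T hTS hT1 _ => by
    set H := normalizer (T : Set G) with hH
    have hTp : IsPGroup p T := S.isPGroup'.to_le hTS
    have hH1 : H ≠ ⊤ := minSimple_normalizer_ne_top hG hT1 (minSimple_ne_top_of_isPGroup hG hTp)
    haveI := minSimple_solvable hG hH1
    obtain ⟨U, -, hU⟩ := exists_isSylowIn_ge (p := p) (le_normalizer : T ≤ H) hTp
    refine familyControlsTransferIn_iff.2 ⟨U, hU, fun x hx => ?_⟩
    obtain ⟨hxU, hxH⟩ := mem_inf.1 hx
    let S' : Sylow p H := (hU.2.1.comap_subtype (K := H)).toSylow hU.2.2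
    have hS' : (S' : Subgroup H).map H.subtype = U := map_subgroupOf_eq_of_le hU.1
    have hxHm : x ∈ (commutator H).map H.subtype := by rwa [map_subtype_commutator]
    obtain ⟨y, hy, rfl⟩ := hxHm
    have h := sylow_inf_commutator_le (minSimple_odd_subgroup hG H) S'
      (mem_inf.2 ⟨(show y ∈ (S' : Subgroup H) from mem_subgroupOf.2 hxU), hy⟩)
    refine mem_iSup_of_mem W (mem_iSup_of_mem rfl (mem_inf.2 ⟨hxU, ?_⟩))
    have hle : (normalizer (Cfsg.centerThompsonOf p (S' : Subgroup H) : Set H)).map H.subtype ≤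
        H ⊓ normalizer (W U : Set G) := by
      refine le_inf (map_subtype_le _) ((le_normalizer_map H.subtype).trans ?_)
      rw [SolvCrit.map_centerThompson H.subtype H.subtype_injective, hS']
    have h2 := mem_map_of_mem H.subtype h
    rw [map_commutator] at h2
    exact commutator_mono hle hle h2
  haveI := minSimple_isSimpleGroup hG
  have hcomm : commutator G = ⊤ :=
    (IsSimpleGroup.eq_bot_or_eq_top_of_normal _ inferInstance).resolve_left fun h =>
      minSimple_not_comm hG ⟨⟨fun a b => commutatorElement_eq_one_iff_mul_comm.1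
        (mem_bot.1 (h ▸ commutator_mem_commutator (mem_top a) (mem_top b) :
          ⁅a, b⁆ ∈ (⊥ : Subgroup G)))⟩⟩
  rw [hcomm, inf_top_eq] at key
  refine key.trans (iSup₂_le fun V hV => ?_)
  rw [Set.mem_singleton_iff.1 hV, top_inf_eq]
  exact inf_le_right

end CfsgLib.OddOrder.CN
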