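import Cfsg.Agent.OddOrder.CN.Solvable
import Cfsg.Agent.OddOrder.CN.MaxNilpotent
import Cfsg.Agent.OddOrder.CN.ThreeStep
import Cfsg.Agent.OddOrder.CN.ZJTransfer
import Cfsg.Agent.OddOrder.TypePBasic
import Cfsg.Agent.Solvable.Hall

/-!
# Minimal simple CN-groups of odd order (Gorenstein, 14.2)

* `not_threeStep`, `sylow_eq_of_inf_ne_bot`, `isTIConj_of_isMaxNilpotent`,
* `maximal_structure`, `normalizer_isCoatom`: maximal subgroups are the normalizers of the maximal
  nilpotent subgroups and are Frobenius groups with those as kernels.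
-/

set_option autoImplicit false
set_option linter.style.haveILetI false

namespace CfsgLib.OddOrder.CN

open Subgroup
open scoped Pointwise
open CfsgLib.ConjFunctor (IsSylowIn lt_inf_normalizer isSylowIn_top exists_isSylowIn_ge)

variable {G : Type*} [Group G] [Finite G]

/-! ### No three-step subgroups -/

/-- No maximal subgroup is a three-step group. -/
theorem coatom_not_threeStep (hG : Cfsg.IsMinSimpleOddOrder G) {M : Subgroup G} (hM : IsCoatom M)
    {r : ℕ} [Fact r.Prime] : ¬ Cfsg.IsThreeStepGroup r ↥M := by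
  intro h
  haveI := minSimple_coatom_solvable hG hM
  have hcore := threeStep_pPrimeCore_eq_bot h
  obtain ⟨hP, A, -, -, -, -, hn, hne, ⟨n, hi⟩, -, -⟩ := h
  obtain ⟨S⟩ : Nonempty (Sylow r M) := inferInstance
  have hS1 : (S : Subgroup M) ≠ ⊥ := ne_bot_of_le_ne_bot hP (Solvable.pCore_le_sylow S)
  set Z := Cfsg.centerThompsonOf r (S : Subgroup M) with hZdef
  have hZn : Z.Normal := by
    have := Cfsg.Agent.S1458.result (minSimple_odd_subgroup hG M) r S
    rwa [hcore, sup_bot_eq] at this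
  set SG := (S : Subgroup M).map M.subtype with hSG
  set ZG := Cfsg.centerThompsonOf r SG with hZG
  have hmap : Z.map M.subtype = ZG :=
    SolvCrit.map_centerThompson M.subtype M.subtype_injective r _
  have hSGp : IsPGroup r SG := S.isPGroup'.map _
  have hSG1 : SG ≠ ⊥ := by rwa [hSG, Ne, map_eq_bot_iff_of_injective _ M.subtype_injective]
  have hZ1 : ZG ≠ ⊥ := SolvCrit.centerThompson_ne_bot hSGp hSG1
  have hMN : M ≤ normalizer (ZG : Set G) := by
    have := hZn
    rw [← hmap, ← normal_subgroupOf_iff_le_normalizer (map_subtype_le _), subgroupOf,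
      comap_map_eq_self_of_injective M.subtype_injective]
    exact hZn
  have hN : normalizer (ZG : Set G) = M := minSimple_normalizer_eq_coatom_of_le hG hM hZ1
    ((SolvCrit.centerThompson_le r SG).trans (map_subtype_le _)) hMN
  have hin : IsSylowIn r SG M := ⟨map_subtype_le _, hSGp, by
    rw [relIndex, hSG, subgroupOf, comap_map_eq_self_of_injective M.subtype_injective]
    exact S.not_dvd_index⟩
  have hNS : normalizer (SG : Set G) ≤ M :=
    (SolvCrit.normalizer_le_normalizer_centerThompson r SG).trans hN.le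
  have htop : IsSylowIn r SG ⊤ := by
    obtain ⟨Q, hPQ, hQ⟩ := exists_isSylowIn_ge (p := r) (le_top : SG ≤ ⊤) hSGp
    suffices he : SG = Q from he ▸ hQ
    by_contra hne'
    have hlt := lt_inf_normalizer hQ.2.1 (lt_of_le_of_ne hPQ hne')
    exact hlt.ne (hin.eq_of_le hlt.le (inf_le_right.trans hNS) (hQ.2.1.to_le inf_le_left)).symm
  have hle : SG ≤ ⁅M, M⁆ := by
    have h := sylow_le_commutator_normalizer_zj hG htop.toSylowTop
    rw [show (htop.toSylowTop : Subgroup G) = SG from IsPGroup.toSylow_coe _ _, ← hZG, hN] at h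
    exact h
  have hS' : (S : Subgroup M) ≤ commutator M := by
    rwa [hSG, ← map_subtype_commutator, map_le_map_iff_of_injective M.subtype_injective] at hle
  -- the `p`-quotient is perfect
  haveI := hn
  set L := Cfsg.pCore r M ⊔ A with hL
  have htopM : (S : Subgroup M) ⊔ L = ⊤ := index_eq_one.1 (Nat.eq_one_of_dvd_coprimes
    (((Fact.out : r.Prime).coprime_iff_not_dvd.2 S.not_dvd_index).pow_left n)
    (hi ▸ index_dvd_of_le le_sup_right) (index_dvd_of_le le_sup_left))
  haveI : Nontrivial (M ⧸ L) := QuotientGroup.nontrivial_iff.2 hne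
  refine (Group.IsSolvable.commutator_lt_top_of_nontrivial (G := M ⧸ L)).ne ?_
  rw [eq_top_iff, ← map_top_of_surjective _ (QuotientGroup.mk'_surjective L), ← htopM,
    Subgroup.map_sup, sup_le_iff]
  constructor
  · refine (map_mono hS').trans ?_
    rw [_root_.commutator_def, map_commutator]
    exact commutator_mono le_top le_top
  · rw [(map_eq_bot_iff L).2 (QuotientGroup.ker_mk' L).ge]
    exact bot_le

/-- The two cases for a maximal subgroup. -/
theorem coatom_cases (hG : Cfsg.IsMinSimpleOddOrder G) (hCN : Cfsg.IsCNGroup G) {M : Subgroup G}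
    (hM : IsCoatom M) :
    Group.IsNilpotent M ∨
      ∃ K E : Subgroup M, K.Normal ∧ K ≠ ⊥ ∧ Group.IsNilpotent K ∧ E ≠ ⊥ ∧
        Group.IsNilpotent E ∧ IsComplement' K E ∧ Cfsg.IsFrobeniusComplement E ∧
        ∀ e ∈ E, e ≠ 1 → K ⊓ centralizer ({e} : Set M) = ⊥ := by
  haveI := minSimple_coatom_solvable hG hM
  rcases solvable_cases (isCNGroup_subgroup hCN M) with h | h | ⟨r, hr, h⟩
  · exact Or.inl h
  · exact Or.inr h
  · haveI := Fact.mk hr
    exact absurd h (coatom_not_threeStep hG hM)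

/-- The quotient by the kernel is nilpotent. -/
theorem isNilpotent_quotient_of_isComplement' {X : Type*} [Group X] {K E : Subgroup X} [K.Normal]
    (hE : Group.IsNilpotent E) (h : IsComplement' K E) : Group.IsNilpotent (X ⧸ K) := by
  haveI := hE
  refine Group.nilpotent_of_surjective ((QuotientGroup.mk' K).comp E.subtype) ?_
  rw [← MonoidHom.range_eq_top, MonoidHom.range_comp, range_subtype,
    ← map_top_of_surjective _ (QuotientGroup.mk'_surjective K), ← h.sup_eq_top, Subgroup.map_sup,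
    (map_eq_bot_iff K).2 (QuotientGroup.ker_mk' K).ge, bot_sup_eq]

/-- Gorenstein 14.2.1: no subgroup is a three-step group. -/
theorem not_threeStep (hG : Cfsg.IsMinSimpleOddOrder G) (hCN : Cfsg.IsCNGroup G) (H : Subgroup G)
    (p : ℕ) : ¬ Cfsg.IsThreeStepGroup p ↥H := by
  intro h
  have hH : H ≠ ⊤ := by
    rintro rfl
    obtain ⟨hP, A, -, -, -, -, -, hne, -⟩ := h
    have hn : ((Cfsg.pCore p (⊤ : Subgroup G)).map (⊤ : Subgroup G).subtype).Normal :=
      (Solvable.pCore_normal p).map _ fun g => ⟨⟨g, mem_top g⟩, rfl⟩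
    rcases minSimple_normal_eq_bot_or_top hG hn with h0 | h0
    · exact hP ((map_eq_bot_iff_of_injective _ (subtype_injective _)).1 h0)
    · refine hne (eq_top_iff.2 (le_trans ?_ le_sup_left))
      intro x _
      obtain ⟨y, hy, hyx⟩ := h0.ge (mem_top (x : G))
      rwa [← subtype_injective _ hyx]
  obtain ⟨M, hM, hHM⟩ := minSimple_exists_coatom hG hH
  haveI := minSimple_solvable hG hH
  have hCNH := isCNGroup_subgroup hCN H
  rcases coatom_cases hG hCN hM with hn | ⟨K, E, hK, -, hKn, -, hEn, hc, -, -⟩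
  · haveI := hn
    exact threeStep_false_of_nilpotent_ker hCNH h (inclusion hHM)
      (by rw [(MonoidHom.ker_eq_bot_iff _).2 (inclusion_injective hHM)]; infer_instance)
  · haveI := hK
    haveI := isNilpotent_quotient_of_isComplement' hEn hc
    haveI := hKn
    refine threeStep_false_of_nilpotent_ker hCNH h
      ((QuotientGroup.mk' K).comp (inclusion hHM)) ?_
    set N := ((QuotientGroup.mk' K).comp (inclusion hHM)).ker
    have hle : N.map (inclusion hHM) ≤ K := by
      rintro _ ⟨x, hx, rfl⟩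
      exact (QuotientGroup.eq_one_iff _).1 hx
    haveI := isNilpotent_of_le hle hKn
    exact Group.nilpotent_of_mulEquiv
      (N.equivMapOfInjective _ (inclusion_injective hHM)).symm

/-! ### Sylow subgroups and maximal nilpotent subgroups are TI -/

/-- Two `p`-subgroups of a maximal subgroup meeting nontrivially lie in one nilpotent subgroup. -/
theorem exists_nilpotent_ge (hG : Cfsg.IsMinSimpleOddOrder G) (hCN : Cfsg.IsCNGroup G)
    {p : ℕ} [Fact p.Prime] {M P Q : Subgroup G} (hM : IsCoatom M) (hP : IsPGroup p P)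
    (hQ : IsPGroup p Q) (hPM : P ≤ M) (hQM : Q ≤ M) (hne : P ⊓ Q ≠ ⊥) :
    ∃ A : Subgroup G, Group.IsNilpotent A ∧ P ≤ A ∧ Q ≤ A := by
  haveI := minSimple_coatom_solvable hG hM
  rcases coatom_cases hG hCN hM with hn | ⟨K, E, hKn, -, hKnil, -, hEnil, hc, hF, hfpf⟩
  · exact ⟨M, hn, hPM, hQM⟩
  suffices h : ∃ B : Subgroup M, Group.IsNilpotent B ∧ P.subgroupOf M ≤ B ∧ Q.subgroupOf M ≤ B by
    obtain ⟨B, hB, h1, h2⟩ := h
    haveI := hB
    refine ⟨B.map M.subtype, Group.nilpotent_of_mulEquiv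
      (B.equivMapOfInjective _ M.subtype_injective), ?_, ?_⟩
    · exact (map_subgroupOf_eq_of_le hPM).ge.trans (map_mono h1)
    · exact (map_subgroupOf_eq_of_le hQM).ge.trans (map_mono h2)
  haveI := hKn
  have hP' : IsPGroup p (P.subgroupOf M) := hP.comap_subtype
  have hQ' : IsPGroup p (Q.subgroupOf M) := hQ.comap_subtype
  by_cases hd : p ∣ Nat.card K
  · have hpE : ¬ p ∣ Nat.card E := fun hdE => by
      exact Nat.not_coprime_of_dvd_of_dvd (Fact.out : p.Prime).one_lt hdE hd
        (Solvable.coprime_card_of_fpf hfpf)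
    have key : ∀ U : Subgroup M, IsPGroup p U → U ≤ K := by
      intro U hU u hu
      obtain ⟨i, hi⟩ := IsPGroup.iff_orderOf.1 hU ⟨u, hu⟩
      rw [Subgroup.orderOf_mk] at hi
      refine (QuotientGroup.eq_one_iff u).1 (orderOf_eq_one_iff.1 (Nat.eq_one_of_dvd_coprimes
        (((Fact.out : p.Prime).coprime_iff_not_dvd.2 hpE).pow_left i)
        (hi ▸ orderOf_map_dvd (QuotientGroup.mk' K) u) ?_))
      rw [← hc.symm.index_eq_card, index_eq_card]
      exact _root_.orderOf_dvd_natCard _
    exact ⟨K, hKnil, key _ hP', key _ hQ'⟩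
  · have hco : (Nat.card E).Coprime (Nat.card K) :=
      Solvable.coprime_card_of_fpf hfpf
    have hcard : Nat.card M = Nat.card E * Nat.card K := by rw [mul_comm, hc.card_mul]
    have key : ∀ U : Subgroup M, IsPGroup p U → ∃ g : M, MulAut.conj g • U ≤ E := by
      intro U hU
      obtain ⟨i, hi⟩ := IsPGroup.iff_card.1 hU
      exact Solvable.exists_conj_le_of_card_coprime hcard hco rfl
        (hi ▸ ((Fact.out : p.Prime).coprime_iff_not_dvd.2 hd).pow_left i)
    obtain ⟨g, hg⟩ := key _ hP'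
    obtain ⟨h, hh⟩ := key _ hQ'
    obtain ⟨x, hx, hx1⟩ := (bot_or_exists_ne_one _).resolve_left hne
    obtain ⟨hxP, hxQ⟩ := mem_inf.1 hx
    set y : M := ⟨x, hPM hxP⟩
    have hyg : g * y * g⁻¹ ∈ E := hg (smul_mem_pointwise_smul y (MulAut.conj g) _ hxP)
    have hyh : h * y * h⁻¹ ∈ E := hh (smul_mem_pointwise_smul y (MulAut.conj h) _ hxQ)
    have he : h * g⁻¹ ∈ E := by
      by_contra he
      have hmem : h * y * h⁻¹ ∈ E ⊓ MulAut.conj (h * g⁻¹) • E := by
        refine mem_inf.2 ⟨hyh, ?_⟩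
        have := smul_mem_pointwise_smul (g * y * g⁻¹) (MulAut.conj (h * g⁻¹)) E hyg
        rw [MulAut.smul_def, MulAut.conj_apply, show h * g⁻¹ * (g * y * g⁻¹) * (h * g⁻¹)⁻¹ =
          h * y * h⁻¹ by group] at this
        exact this
      rw [hF.2.2 _ he, mem_bot, conj_eq_one_iff] at hmem
      exact hx1 (congrArg Subtype.val hmem)
    haveI := hEnil
    refine ⟨E.comap (MulAut.conj g).toMonoidHom, Group.nilpotent_of_mulEquiv
      ((E.comap (MulAut.conj g).toMonoidHom).equivMapOfInjective _ (MulAut.conj g).injective |>.trans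
        (MulEquiv.subgroupCongr
          (map_comap_eq_self_of_surjective (MulAut.conj g).surjective E))).symm, ?_, ?_⟩
    · intro u hu
      exact hg (smul_mem_pointwise_smul u (MulAut.conj g) _ hu)
    · intro u hu
      have h1 : h * u * h⁻¹ ∈ E := hh (smul_mem_pointwise_smul u (MulAut.conj h) _ hu)
      have h2 := mul_mem (mul_mem (inv_mem he) h1) he
      show g * u * g⁻¹ ∈ E
      convert h2 using 1
      group

/-- Sylow subgroups are TI. -/
theorem sylow_eq_of_inf_ne_bot (hG : Cfsg.IsMinSimpleOddOrder G) (hCN : Cfsg.IsCNGroup G)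
    {p : ℕ} [Fact p.Prime] (S T : Sylow p G) (hne : (S : Subgroup G) ⊓ T ≠ ⊥) : S = T := by
  suffices h : ∀ n : ℕ, ∀ S T : Sylow p G,
      Nat.card G < Nat.card ↥((S : Subgroup G) ⊓ T) + n →
      (S : Subgroup G) ⊓ T ≠ ⊥ → S = T from
    h (Nat.card G + 1) S T (by omega) hne
  intro n
  induction n with
  | zero =>
    intro S T h
    have := Subgroup.card_le_card_group ((S : Subgroup G) ⊓ T)
    omega
  | succ n ih =>
    intro S T h hD
    by_contra hST
    set D := (S : Subgroup G) ⊓ T with hDdef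
    have hDS : D < S := lt_of_le_of_ne inf_le_left fun e =>
      hST (Sylow.ext (S.is_maximal' T.isPGroup' (e.ge.trans inf_le_right)).symm)
    have hDT : D < T := lt_of_le_of_ne inf_le_right fun e =>
      hST (Sylow.ext (T.is_maximal' S.isPGroup' (e.ge.trans inf_le_left)))
    have hDp : IsPGroup p D := S.isPGroup'.to_le inf_le_left
    obtain ⟨M, hM, hNM⟩ := minSimple_exists_coatom hG
      (minSimple_normalizer_ne_top hG hD (minSimple_ne_top_of_isPGroup hG hDp))
    have h1 := lt_inf_normalizer S.isPGroup' hDS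
    have h2 := lt_inf_normalizer T.isPGroup' hDT
    have hne' : ((S : Subgroup G) ⊓ normalizer (D : Set G)) ⊓
        ((T : Subgroup G) ⊓ normalizer (D : Set G)) ≠ ⊥ :=
      ne_bot_of_le_ne_bot hD (le_inf h1.le h2.le)
    obtain ⟨B, hB, hB1, hB2⟩ := exists_nilpotent_ge hG hCN hM (S.isPGroup'.to_le inf_le_left)
      (T.isPGroup'.to_le inf_le_left) (inf_le_right.trans hNM) (inf_le_right.trans hNM) hne'
    obtain ⟨R, -, hR, hRall, -⟩ := NilpotentCover.exists_pGroup_of_mem (p := p) hB
    obtain ⟨U, hU⟩ := hR.exists_le_sylow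
    have hpart : ∀ C : Subgroup G, IsPGroup p C → C ≤ B → C ≤ U := by
      intro C hC hCB c hc
      obtain ⟨i, hi⟩ := IsPGroup.iff_orderOf.1 hC ⟨c, hc⟩
      rw [Subgroup.orderOf_mk] at hi
      exact hU (hRall c (hCB hc) ⟨i, hi⟩)
    have key : ∀ V : Sylow p G, D < (V : Subgroup G) ⊓ U → V = U := by
      intro V hV
      have hlt : Nat.card D < Nat.card ↥((V : Subgroup G) ⊓ U) :=
        lt_of_not_ge fun hge => hV.ne (eq_of_le_of_card_ge hV.le hge)
      exact ih V U (by omega) (ne_bot_of_gt hV)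
    have e1 := key S (h1.trans_le (le_inf inf_le_left (hpart _ (S.isPGroup'.to_le inf_le_left) hB1)))
    have e2 := key T (h2.trans_le (le_inf inf_le_left (hpart _ (T.isPGroup'.to_le inf_le_left) hB2)))
    exact hST (e1.trans e2.symm)

theorem isMaxNilpotent_ne_bot (hG : Cfsg.IsMinSimpleOddOrder G) {H : Subgroup G}
    (hH : IsMaxNilpotent H) : H ≠ ⊥ := by
  rintro rfl
  haveI := minSimple_nontrivial hG
  obtain ⟨x, hx⟩ := exists_ne (1 : G)
  haveI : Group.IsNilpotent (zpowers x) :=
    letI := IsCyclic.commGroup (α := zpowers x)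
    CommGroup.isNilpotent
  exact hx (zpowers_eq_bot.1 (hH.2 (zpowers x) inferInstance bot_le))

theorem isMaxNilpotent_ne_top (hG : Cfsg.IsMinSimpleOddOrder G) {H : Subgroup G}
    (hH : IsMaxNilpotent H) : H ≠ ⊤ :=
  haveI := hH.1
  minSimple_ne_top_of_solvable hG inferInstance

/-- Gorenstein 14.2.3: every maximal nilpotent subgroup is TI. -/
theorem isTIConj_of_isMaxNilpotent (hG : Cfsg.IsMinSimpleOddOrder G) (hCN : Cfsg.IsCNGroup G)
    {H : Subgroup G} (hH : IsMaxNilpotent H) : IsTIConj H := by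
  by_cases hpp : IsPrimePow (Nat.card H)
  swap
  · exact inf_conj_eq_bot_of_not_primePow hCN hH hpp
  obtain ⟨p, k, hp, hk, hpk⟩ := (isPrimePow_nat_iff _).1 hpp
  haveI := Fact.mk hp
  obtain ⟨S, hS⟩ := sylow_le_of_maximal_nilpotent hCN hH (hpk ▸ dvd_pow_self p hk.ne')
  have hHS : H = (S : Subgroup G) := S.is_maximal' (IsPGroup.of_card hpk.symm) hS
  intro g hg
  by_contra hne
  apply hg
  have h1 : H.map (MulAut.conj g).toMonoidHom = ((g • S : Sylow p G) : Subgroup G) := by
    rw [hHS]; rfl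
  rw [h1]
  conv_rhs => rw [hHS]
  exact congrArg Sylow.toSubgroup
    (sylow_eq_of_inf_ne_bot hG hCN S (g • S) (by rw [← h1, ← hHS]; exact hne)).symm

/-! ### Maximal subgroups -/

/-- A maximal nilpotent subgroup is not its own normalizer. -/
theorem normalizer_ne_self (hG : Cfsg.IsMinSimpleOddOrder G) (hCN : Cfsg.IsCNGroup G)
    {H : Subgroup G} (hH : IsMaxNilpotent H) : normalizer (H : Set G) ≠ H := by
  intro hN
  have hti := isTIConj_of_isMaxNilpotent hG hCN hH
  obtain ⟨p, hp, hpd⟩ := Nat.exists_prime_and_dvd (n := Nat.card H)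
    (fun e => isMaxNilpotent_ne_bot hG hH (card_eq_one.1 e))
  haveI := Fact.mk hp
  obtain ⟨S, hS⟩ := sylow_le_of_maximal_nilpotent hCN hH hpd
  have hS1 : (S : Subgroup G) ≠ ⊥ :=
    S.ne_bot_of_dvd_card (hpd.trans (card_subgroup_dvd_card H))
  set Z := Cfsg.centerThompsonOf p (S : Subgroup G)
  have hZ1 : Z ≠ ⊥ := SolvCrit.centerThompson_ne_bot S.isPGroup' hS1
  have hZH : Z ≤ H := (SolvCrit.centerThompson_le p _).trans hS
  have hNZ : normalizer (Z : Set G) ≤ H := by
    intro g hg
    rw [← hN, mem_normalizer_iff_map_conj_eq]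
    by_contra hne
    refine hZ1 (le_bot_iff.1 ((le_inf hZH ?_).trans (hti g hne).le))
    exact (map_conj_eq_self_iff.2 hg).ge.trans (map_mono hZH)
  have hSc : (S : Subgroup G) ≤ ⁅H, H⁆ :=
    (sylow_le_commutator_normalizer_zj hG S).trans (commutator_mono hNZ hNZ)
  -- a nilpotent group has no Sylow subgroup inside its derived group
  haveI := hH.1
  set S₀ := S.subtype hS
  haveI hn : (S₀ : Subgroup H).Normal :=
    S₀.normal_of_normalizerCondition Group.normalizerCondition_of_isNilpotent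
  obtain ⟨C, hC⟩ := exists_right_complement'_of_coprime S₀.card_coprime_index
  have hCne : C ≠ ⊤ := fun e => by
    subst e
    exact S₀.ne_bot_of_dvd_card hpd (isComplement'_top_right.1 hC)
  obtain ⟨U, hU, hCU⟩ := (IsCoatomic.eq_top_or_exists_le_coatom C).resolve_left hCne
  haveI : U.Normal :=
    Subgroup.NormalizerCondition.normal_of_coatom U Group.normalizerCondition_of_isNilpotent hU
  haveI : Nontrivial (H ⧸ U) := QuotientGroup.nontrivial_iff.2 hU.1
  refine (Group.IsSolvable.commutator_lt_top_of_nontrivial (G := H ⧸ U)).ne ?_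
  rw [eq_top_iff, ← map_top_of_surjective _ (QuotientGroup.mk'_surjective U), ← hC.sup_eq_top,
    Subgroup.map_sup, sup_le_iff]
  constructor
  · have h1 : (S₀ : Subgroup H) ≤ commutator H := by
      rw [← map_subtype_commutator] at hSc
      intro x hx
      obtain ⟨y, hy, hyx⟩ := hSc (mem_subgroupOf.1 hx)
      rwa [← H.subtype_injective hyx]
    refine (map_mono h1).trans ?_
    rw [_root_.commutator_def, map_commutator]
    exact commutator_mono le_top le_top
  · rw [(map_eq_bot_iff C).2 (hCU.trans (QuotientGroup.ker_mk' U).ge)]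
    exact bot_le

/-- The structure of a maximal subgroup. -/
theorem maximal_structure (hG : Cfsg.IsMinSimpleOddOrder G) (hCN : Cfsg.IsCNGroup G)
    {M : Subgroup G} (hM : IsCoatom M) :
    IsMaxNilpotent (Cfsg.fittingHallOf M) ∧
      normalizer (Cfsg.fittingHallOf M : Set G) = M ∧
      (∀ U : Subgroup G, U ≤ M → U ⊓ Cfsg.fittingHallOf M = ⊥ → Group.IsNilpotent U) ∧
      ∃ E : Subgroup G, Cfsg.IsComplIn (Cfsg.fittingHallOf M) E M ∧ E ≠ ⊥ ∧
        Group.IsNilpotent E ∧
        ∀ e ∈ E, e ≠ 1 → Cfsg.fittingHallOf M ⊓ centralizer ({e} : Set G) = ⊥ := by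
  rcases coatom_cases hG hCN hM with hn | ⟨K₀, E₀, hK₀n, hK₀1, hK₀nil, hE₀1, hE₀nil, hc, -, hfpf⟩
  · obtain ⟨H, hMH, hH⟩ := exists_maximal_nilpotent hn
    have hHM : H = M := (hM.le_iff.1 hMH).resolve_left (isMaxNilpotent_ne_top hG hH)
    exact absurd (minSimple_normalizer_coatom hG hM) (normalizer_ne_self hG hCN (hHM ▸ hH))
  set K := K₀.map M.subtype with hK
  set E := E₀.map M.subtype with hE
  haveI := hK₀n
  haveI := hK₀nil
  have hKnil : Group.IsNilpotent K :=
    Group.nilpotent_of_mulEquiv (K₀.equivMapOfInjective _ M.subtype_injective)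
  have hKM : K ≤ M := map_subtype_le _
  have hK1 : K ≠ ⊥ := by rwa [hK, Ne, map_eq_bot_iff_of_injective _ M.subtype_injective]
  have hMK : M ≤ normalizer (K : Set G) := by
    rw [← normal_subgroupOf_iff_le_normalizer hKM, subgroupOf, hK,
      comap_map_eq_self_of_injective M.subtype_injective]
    exact hK₀n
  have hcompl : Cfsg.IsComplIn K E M := by
    refine ⟨hKM, map_subtype_le _, ?_, fun m hm => ?_⟩
    · rw [hK, hE, ← map_inf _ _ _ M.subtype_injective, hc.disjoint.eq_bot, Subgroup.map_bot]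
    · have h : (⟨m, hm⟩ : M) ∈ K₀ ⊔ E₀ := hc.sup_eq_top ▸ mem_top _
      rw [← SetLike.mem_coe, Subgroup.normal_mul] at h
      obtain ⟨a, ha, b, hb, hab⟩ := Set.mem_mul.1 h
      exact ⟨a, mem_map_of_mem _ ha, b, mem_map_of_mem _ hb, (congrArg Subtype.val hab).symm⟩
  have hfpfG : ∀ e ∈ E, e ≠ 1 → K ⊓ centralizer ({e} : Set G) = ⊥ := by
    rintro _ ⟨e, he, rfl⟩ he1
    rw [eq_bot_iff]
    rintro _ ⟨⟨x, hx, rfl⟩, hxe⟩
    have h := (hfpf e he (fun h => he1 (by rw [h, map_one]))).le
      (show x ∈ K₀ ⊓ centralizer ({e} : Set M) from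
        ⟨hx, mem_centralizer_singleton_iff.2 (Subtype.ext (mem_centralizer_singleton_iff.1 hxe))⟩)
    rw [mem_bot] at h
    rw [h, map_one]
    exact one_mem _
  obtain ⟨H, hKH, hH⟩ := exists_maximal_nilpotent hKnil
  have hti := isTIConj_of_isMaxNilpotent hG hCN hH
  have hMH : M ≤ normalizer (H : Set G) := by
    intro g hg
    rw [mem_normalizer_iff_map_conj_eq]
    by_contra hne
    refine hK1 (le_bot_iff.1 ((le_inf hKH ?_).trans (hti g hne).le))
    exact (map_conj_eq_self_iff.2 (hMK hg)).ge.trans (map_mono hKH)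
  have hN : normalizer (H : Set G) = M := minSimple_normalizer_eq_coatom hG hM
    (isMaxNilpotent_ne_bot hG hH) (isMaxNilpotent_ne_top hG hH) hMH
  have hHK : H = K := by
    refine le_antisymm (fun h hh => ?_) hKH
    have hhM : h ∈ M := hN ▸ le_normalizer hh
    obtain ⟨k, hk, e, he, rfl⟩ := hcompl.2.2.2 h hhM
    have heH : e ∈ H := by
      simpa using mul_mem (inv_mem (hKH hk)) hh
    suffices e = 1 by rw [this, mul_one]; exact hk
    by_contra he1
    obtain ⟨x, hx, hx1⟩ := (bot_or_exists_ne_one K).resolve_left hK1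
    have hco : (orderOf x).Coprime (orderOf e) := by
      obtain ⟨e₀, he₀, rfl⟩ := he
      obtain ⟨x₀, hx₀, rfl⟩ := hx
      rw [orderOf_injective _ M.subtype_injective, orderOf_injective _ M.subtype_injective]
      exact ((Solvable.coprime_card_of_fpf hfpf).symm.coprime_dvd_left
        (Subgroup.orderOf_dvd_natCard K₀ hx₀)).coprime_dvd_right
        (Subgroup.orderOf_dvd_natCard E₀ he₀)
    exact hx1 (mem_bot.1 ((hfpfG e he he1).le ⟨hx, mem_centralizer_singleton_iff.2
      (NilpotentCover.commute_of_coprime_mem hH.1 (hKH hx) heH hco).eq⟩))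
  rw [hHK] at hH hN
  have hKF : K ≤ Cfsg.fittingHallOf M := le_fittingHallOf hKM hMK hH.1 (by
    rw [relIndex, hK, subgroupOf, comap_map_eq_self_of_injective M.subtype_injective,
      hc.symm.index_eq_card, card_map_of_injective M.subtype_injective]
    exact (Solvable.coprime_card_of_fpf hfpf).symm)
  have hFnil : Group.IsNilpotent (Cfsg.fittingHallOf M) := by
    haveI := fittingHall_isNilpotent (G := M)
    exact Group.nilpotent_of_mulEquiv
      ((Cfsg.fittingHall M).equivMapOfInjective _ M.subtype_injective)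
  rw [hH.2 _ hFnil hKF]
  refine ⟨hH, hN, fun U hUM hU => ?_, E, hcompl, ?_, ?_, hfpfG⟩
  · haveI := isNilpotent_quotient_of_isComplement' hE₀nil hc
    have hinj : Function.Injective ((QuotientGroup.mk' K₀).comp (inclusion hUM)) := by
      rw [← MonoidHom.ker_eq_bot_iff, eq_bot_iff]
      intro u hu
      have h1 : (u : G) ∈ K₀.map M.subtype :=
        ⟨inclusion hUM u, (QuotientGroup.eq_one_iff _).1 hu, rfl⟩
      exact mem_bot.2 (Subtype.ext (mem_bot.1 (hU.le ⟨u.2, h1⟩)))
    exact Group.nilpotent_of_mulEquiv (MonoidHom.ofInjective hinj).symm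
  · rwa [hE, Ne, map_eq_bot_iff_of_injective _ M.subtype_injective]
  · haveI := hE₀nil
    exact Group.nilpotent_of_mulEquiv (E₀.equivMapOfInjective _ M.subtype_injective)

/-- The normalizer of a maximal nilpotent subgroup `H` is maximal and has `H` as its kernel. -/
theorem normalizer_isCoatom (hG : Cfsg.IsMinSimpleOddOrder G) (hCN : Cfsg.IsCNGroup G)
    {H : Subgroup G} (hH : IsMaxNilpotent H) :
    IsCoatom (normalizer (H : Set G)) ∧ Cfsg.fittingHallOf (normalizer (H : Set G)) = H := by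
  obtain ⟨M, hM, hNM⟩ := minSimple_exists_coatom hG
    (minSimple_normalizer_ne_top hG (isMaxNilpotent_ne_bot hG hH) (isMaxNilpotent_ne_top hG hH))
  obtain ⟨hK, hKN, hnil, -⟩ := maximal_structure hG hCN hM
  set K := Cfsg.fittingHallOf M with hKdef
  have hti := isTIConj_of_isMaxNilpotent hG hCN hH
  have htiK := isTIConj_of_isMaxNilpotent hG hCN hK
  by_cases hne : H ⊓ K = ⊥
  · exfalso
    refine normalizer_ne_self hG hCN hH (hH.2 _ (hnil _ hNM ?_) le_normalizer)
    rw [eq_bot_iff]
    rintro x ⟨hxN, hxK⟩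
    obtain ⟨h, hh, hh1⟩ := (bot_or_exists_ne_one H).resolve_left (isMaxNilpotent_ne_bot hG hH)
    have hc : x * h * x⁻¹ * h⁻¹ ∈ H ⊓ K := by
      refine mem_inf.2 ⟨mul_mem ((mem_normalizer_iff.1 hxN h).1 hh) (inv_mem hh), ?_⟩
      have h2 : h * x⁻¹ * h⁻¹ ∈ K :=
        (mem_normalizer_iff.1 (hKN.ge (hNM (le_normalizer hh))) x⁻¹).1 (inv_mem hxK)
      simpa [mul_assoc] using mul_mem hxK h2
    rw [hne, mem_bot, mul_inv_eq_one, mul_inv_eq_iff_eq_mul] at hc
    refine hne.le ⟨centralizer_le_of_ti hCN hH hti hh hh1 ?_, hxK⟩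
    exact mem_centralizer_singleton_iff.2 hc
  · have e := eq_of_inf_ne_bot hCN hH hti hK htiK hne
    rw [e, hKN]
    exact ⟨hM, rfl⟩

/-- Maximal nilpotent subgroups with the same normalizer coincide. -/
theorem eq_of_normalizer_eq (hG : Cfsg.IsMinSimpleOddOrder G) (hCN : Cfsg.IsCNGroup G)
    {H K : Subgroup G} (hH : IsMaxNilpotent H) (hK : IsMaxNilpotent K)
    (h : normalizer (H : Set G) = normalizer (K : Set G)) : H = K := by
  rw [← (normalizer_isCoatom hG hCN hH).2, ← (normalizer_isCoatom hG hCN hK).2, h]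

/-- Maximal nilpotent subgroups with a common prime divisor of the orders are conjugate. -/
theorem exists_conj_of_dvd (hG : Cfsg.IsMinSimpleOddOrder G) (hCN : Cfsg.IsCNGroup G)
    {H₁ H₂ : Subgroup G} (h₁ : IsMaxNilpotent H₁) (h₂ : IsMaxNilpotent H₂) {p : ℕ} [Fact p.Prime]
    (hd₁ : p ∣ Nat.card H₁) (hd₂ : p ∣ Nat.card H₂) :
    ∃ g : G, H₂ = H₁.map (MulAut.conj g).toMonoidHom := by
  obtain ⟨S₁, hS₁⟩ := sylow_le_of_maximal_nilpotent hCN h₁ hd₁
  obtain ⟨S₂, hS₂⟩ := sylow_le_of_maximal_nilpotent hCN h₂ hd₂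
  obtain ⟨g, hg⟩ := MulAction.exists_smul_eq G S₁ S₂
  have hm := isMaxNilpotent_map_conj h₁ g
  refine ⟨g, eq_of_inf_ne_bot hCN h₂ (isTIConj_of_isMaxNilpotent hG hCN h₂) hm
    (isTIConj_of_isMaxNilpotent hG hCN hm) (ne_bot_of_le_ne_bot
      (S₂.ne_bot_of_dvd_card (hd₂.trans (card_subgroup_dvd_card H₂))) (le_inf hS₂ ?_))⟩
  rw [← hg]
  exact map_mono hS₁

end CfsgLib.OddOrder.CN
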