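import Cfsg.Agent.OddOrder.CN.Frobenius
import Cfsg.Agent.PLocal.Cores
import Cfsg.Prelude.Def_OddOrderLocal

/-!
# Solvable CN-groups (Gorenstein, 14.1.5)

* `isThreeStepGroup_of_solvable`: a solvable CN-group without nontrivial normal Sylow subgroups is
  a three-step group.
* `solvable_cases`: a solvable CN-group is nilpotent, Frobenius with nilpotent kernel and complement,
  or three-step.
-/

set_option autoImplicit false
set_option linter.style.haveILetI false

namespace CfsgLib.OddOrder.CN

open Subgroup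
open scoped commutatorElement Pointwise

variable {G : Type*} [Group G] [Finite G]

/-- Two nontrivial cores for different primes make the Sylow subgroup normal. -/
theorem normal_sylow_of_two_cores (hCN : Cfsg.IsCNGroup G) {p q : ℕ} [Fact p.Prime]
    [Fact q.Prime] (hpq : p ≠ q) (hP : Cfsg.pCore p G ≠ ⊥) (hQ : Cfsg.pCore q G ≠ ⊥)
    (S : Sylow p G) : (S : Subgroup G).Normal := by
  set Q := Cfsg.pCore q G with hQdef
  haveI hQn : Q.Normal := Solvable.pCore_normal q
  have hQS : (S : Subgroup G) ≤ centralizer (Q : Set G) := by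
    intro s hs y hy
    obtain ⟨x, hx, hx1⟩ := (Cfsg.pCore p G).bot_or_exists_ne_one.resolve_left hP
    have hxy : Commute x y := commute_of_normal_of_disjoint _ _ (Solvable.pCore_normal p) hQn
      (IsPGroup.disjoint_of_ne p q hpq _ _ (Solvable.isPGroup_pCore p) (Solvable.isPGroup_pCore q))
      x y hx hy
    exact (mem_centralizer_of_commute hCN S.isPGroup' (Solvable.pCore_le_sylow S hx) hx1
      (coprime_orderOf_of_isPGroup (Solvable.isPGroup_pCore q) hy
        ((Nat.coprime_primes (Fact.out : p.Prime) (Fact.out : q.Prime)).mpr hpq))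
      hxy s hs).symm
  set C := centralizer (Q : Set G) with hC
  haveI : C.Normal := by rw [hC]; infer_instance
  obtain ⟨y, hy, hy1⟩ := Q.bot_or_exists_ne_one.resolve_left hQ
  haveI hCnil : Group.IsNilpotent C :=
    isNilpotent_of_le (centralizer_le (Set.singleton_subset_iff.mpr hy)) (hCN y hy1)
  haveI : ((S.subtype hQS : Sylow p C) : Subgroup C).Normal :=
    (S.subtype hQS).normal_of_normalizerCondition Group.normalizerCondition_of_isNilpotent
  haveI := Sylow.characteristic_of_normal (S.subtype hQS) inferInstance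
  have h1 : ((S.subtype hQS : Sylow p C) : Subgroup C).map C.subtype = S := by
    rw [Sylow.coe_subtype, map_subgroupOf_eq_of_le hQS]
  rw [← h1]
  infer_instance

/-- A non-nilpotent solvable CN-group without nontrivial normal Sylow subgroups is three-step. -/
theorem isThreeStepGroup_of_solvable [Group.IsSolvable G] (hCN : Cfsg.IsCNGroup G)
    (hnn : ¬ Group.IsNilpotent G)
    (hno : ∀ (p : ℕ) (_ : Fact p.Prime) (S : Sylow p G), (S : Subgroup G).Normal →
      (S : Subgroup G) = ⊥) :
    ∃ p : ℕ, p.Prime ∧ Cfsg.IsThreeStepGroup p G := by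
  haveI : Nontrivial G := not_subsingleton_iff_nontrivial.mp fun h => hnn inferInstance
  -- the Fitting subgroup is a `p`-group
  obtain ⟨p, hp, hPne⟩ : ∃ p : ℕ, p.Prime ∧ Cfsg.pCore p G ≠ ⊥ := by
    by_contra! h
    refine Solvable.fittingSubgroup_ne_bot (G := G) ?_
    rw [Solvable.fittingSubgroup_eq_iSup, eq_bot_iff]
    exact iSup_le fun q => (h q q.2).le
  haveI := Fact.mk hp
  set P := Cfsg.pCore p G with hPdef
  haveI hPn : P.Normal := Solvable.pCore_normal p
  have hPp : IsPGroup p P := Solvable.isPGroup_pCore p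
  have hFP : Cfsg.fittingSubgroup G = P := by
    refine le_antisymm ?_ (Solvable.pCore_le_fittingSubgroup p)
    rw [Solvable.fittingSubgroup_eq_iSup]
    refine iSup_le fun q => ?_
    by_cases hq : (q : ℕ) = p
    · rw [hq]
    · by_contra hne
      have hQne : Cfsg.pCore (q : ℕ) G ≠ ⊥ := fun h => hne (h ▸ bot_le)
      haveI := Fact.mk q.2
      obtain ⟨S⟩ : Nonempty (Sylow p G) := inferInstance
      have h := hno p inferInstance S (normal_sylow_of_two_cores hCN (Ne.symm hq) hPne hQne S)
      exact hPne (le_bot_iff.mp (h ▸ Solvable.pCore_le_sylow S))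
  have hCP : centralizer (P : Set G) ≤ P := hFP ▸ Solvable.centralizer_fittingSubgroup_le
  have hpidx : p ∣ P.index := by
    by_contra hnd
    let S : Sylow p G := hPp.toSylow hnd
    have hS : (S : Subgroup G) = P := IsPGroup.toSylow_coe _ _
    exact hPne (hS ▸ hno p inferInstance S (hS ▸ hPn))
  -- the quotient
  set f := QuotientGroup.mk' P with hf
  have hfker : ∀ x : G, f x = 1 ↔ x ∈ P := fun x => QuotientGroup.eq_one_iff x
  have hCNq : Cfsg.IsCNGroup (G ⧸ P) := isCNGroup_quotient hCN P inferInstance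
  set Fb := Cfsg.fittingSubgroup (G ⧸ P) with hFb
  haveI hFbn : Fb.Normal := Solvable.fittingSubgroup_normal
  haveI hFbnil : Group.IsNilpotent Fb := Solvable.fittingSubgroup_isNilpotent
  haveI : Nontrivial (G ⧸ P) := by
    refine QuotientGroup.nontrivial_iff.mpr fun h => ?_
    rw [h, index_top] at hpidx
    exact hp.not_dvd_one hpidx
  have hFb1 : Fb ≠ ⊥ := Solvable.fittingSubgroup_ne_bot
  have hFbco : (Nat.card Fb).Coprime p := by
    refine (hp.coprime_iff_not_dvd.mpr fun hd => ?_).symm
    obtain ⟨T⟩ : Nonempty (Sylow p Fb) := inferInstance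
    haveI := T.normal_of_normalizerCondition Group.normalizerCondition_of_isNilpotent
    haveI := T.characteristic_of_normal inferInstance
    have hle : (T : Subgroup Fb).map Fb.subtype ≤ Cfsg.pCore p (G ⧸ P) :=
      Solvable.le_pCore (T.isPGroup'.map _)
    rw [PLocal.pCore_quotient_pCore_eq_bot, le_bot_iff,
      map_eq_bot_iff_of_injective _ Fb.subtype_injective] at hle
    exact T.ne_bot_of_dvd_card hd hle
  set L := Fb.comap f with hL
  haveI hLn : L.Normal := hFbn.comap f
  have hPL : P ≤ L := fun x hx => by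
    rw [hL, mem_comap, (hfker x).mpr hx]; exact one_mem _
  -- a complement of `P` in `L`
  have hidxL : P.relIndex L = Nat.card Fb := by
    have h1 : L.map f = Fb := map_comap_eq_self_of_surjective (QuotientGroup.mk'_surjective P) Fb
    rw [← h1, ← relIndex_bot_left (L.map f), ← Subgroup.map_bot f, relIndex_map_map, bot_sup_eq,
      hf, QuotientGroup.ker_mk', sup_eq_left.mpr hPL]
  obtain ⟨m, hm⟩ := IsPGroup.iff_card.mp hPp
  obtain ⟨A₀, hA₀⟩ := exists_right_complement'_of_coprime (N := P.subgroupOf L) (by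
    rw [Nat.card_congr (subgroupOfEquivOfLe hPL).toEquiv, hm]
    exact (show (p ^ m).Coprime (P.relIndex L) from hidxL ▸ (hFbco.pow_right m).symm))
  set A := A₀.map L.subtype with hA
  have hAL : A ≤ L := map_subtype_le _
  have hAc : Nat.card A = Nat.card Fb := by
    rw [hA, card_map_of_injective L.subtype_injective, ← hA₀.symm.index_eq_card, ← hidxL]
    rfl
  have hPA : P ⊔ A = L := by
    rw [← map_subgroupOf_eq_of_le hPL, hA, ← Subgroup.map_sup, hA₀.sup_eq_top,
      ← MonoidHom.range_eq_map, range_subtype]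
  have hPiA : P ⊓ A = ⊥ := by
    refine Coprime.inf_eq_bot_of_coprime ?_
    rw [hm, hAc]
    exact (hFbco.pow_right m).symm
  have hAco : (Nat.card A).Coprime p := hAc ▸ hFbco
  have hinjA : ∀ a ∈ A, f a = 1 → a = 1 := fun a ha h =>
    mem_bot.mp (hPiA.le ⟨(hfker a).mp h, ha⟩)
  let e : A →* Fb := (f.comp A.subtype).codRestrict Fb fun a => mem_comap.mp (hAL a.2)
  have he : Function.Injective e := by
    rw [← MonoidHom.ker_eq_bot_iff, eq_bot_iff]
    exact fun a ha => mem_bot.mpr (Subtype.ext (hinjA a a.2 (congrArg Subtype.val ha)))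
  let eq : A ≃* Fb := MulEquiv.ofBijective e (he.bijective_of_nat_card_le hAc.ge)
  haveI hAnil : Group.IsNilpotent A := Group.nilpotent_of_mulEquiv eq.symm
  have hfpf : ∀ a ∈ A, a ≠ 1 → P ⊓ centralizer ({a} : Set G) = ⊥ := by
    intro a ha ha1
    rw [eq_bot_iff]
    rintro x ⟨hx, hxa⟩
    by_contra hx1
    have := mem_centralizer_of_commute hCN hPp hx (fun h => hx1 (mem_bot.mpr h))
      (hAco.coprime_dvd_left (Subgroup.orderOf_dvd_natCard A ha))
      (mem_centralizer_singleton_iff.mp hxa)
    exact ha1 (mem_bot.mp (hPiA.le ⟨hCP this, ha⟩))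
  -- centralisers in the quotient
  have hcentral : ∀ t ∈ Fb, t ≠ 1 → (centralizer ({t} : Set (G ⧸ P))).Normal →
      centralizer ({t} : Set (G ⧸ P)) ≤ Fb := fun t _ ht1 hn =>
    haveI := hn
    Solvable.le_fittingSubgroup (hCNq t ht1)
  have hAodd : Odd (Nat.card A) := by
    rw [← Nat.not_even_iff_odd, even_iff_two_dvd]
    intro h2
    haveI := Fact.mk Nat.prime_two
    obtain ⟨⟨t, htA⟩, ht⟩ := exists_prime_orderOf_dvd_card' 2 h2
    rw [Subgroup.orderOf_mk] at ht
    have ht1 : t ≠ 1 := fun h => by rw [h, orderOf_one] at ht; omega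
    have ht2 : t * t = 1 := by rw [← sq, ← ht]; exact pow_orderOf_eq_one t
    have hinv := (Solvable.inverts_of_fpf_involution hfpf htA ht1 ht2).1
    obtain ⟨k, hk, hk1⟩ := P.bot_or_exists_ne_one.resolve_left hPne
    -- the only involution
    have huniq : ∀ u ∈ A, u ≠ 1 → u * u = 1 → u = t := by
      intro u hu hu1 hu2
      have hinv' := (Solvable.inverts_of_fpf_involution hfpf hu hu1 hu2).1
      have hut : u⁻¹ * t = 1 := by
        by_contra hne
        refine hk1 (Solvable.eq_one_of_commute_of_fpf hfpf (mul_mem (inv_mem hu) htA) hne hk ?_)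
        calc u⁻¹ * t * k = u⁻¹ * (t * k * t⁻¹) * t := by group
          _ = u⁻¹ * k⁻¹ * t := by rw [hinv k hk]
          _ = u⁻¹ * (u * k * u⁻¹) * t := by rw [hinv' k hk]
          _ = k * (u⁻¹ * t) := by group
      exact inv_mul_eq_one.mp hut
    have hftF : f t ∈ Fb := mem_comap.mp (hAL htA)
    have hft1 : f t ≠ 1 := fun h => ht1 (hinjA t htA h)
    have hcen : centralizer ({f t} : Set (G ⧸ P)) = ⊤ := by
      rw [eq_top_iff]
      intro y _
      rw [mem_centralizer_singleton_iff]
      obtain ⟨⟨u, hu⟩, hue⟩ := eq.surjective ⟨_, hFbn.conj_mem _ hftF y⟩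
      have hu' : f u = y * f t * y⁻¹ := congrArg Subtype.val hue
      have hu1 : u ≠ 1 := fun h => hft1 (by
        rw [h, map_one] at hu'
        exact conj_eq_one_iff.mp hu'.symm)
      have hu2 : u * u = 1 := hinjA _ (mul_mem hu hu) (by
        rw [map_mul, hu', show y * f t * y⁻¹ * (y * f t * y⁻¹) = y * (f t * f t) * y⁻¹ by group,
          ← map_mul, ht2, map_one]
        group)
      rw [huniq u hu hu1 hu2] at hu'
      conv_rhs => rw [hu']
      group
    have htop : Fb = ⊤ := top_le_iff.mp (hcen ▸ hcentral _ hftF hft1 (by rw [hcen]; infer_instance))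
    rw [htop, card_top, ← index_eq_card] at hFbco
    exact hp.not_dvd_one (hFbco ▸ Nat.dvd_gcd hpidx dvd_rfl)
  haveI hAZ : IsZGroup A := isZGroup_of_fpf hPne hfpf le_rfl hAodd
  haveI hAcyc : IsCyclic A := inferInstance
  haveI hFbcyc : IsCyclic Fb := isCyclic_of_surjective eq.toMonoidHom eq.surjective
  have hCle : ∀ t ∈ Fb, t ≠ 1 → centralizer ({t} : Set (G ⧸ P)) ≤ Fb := by
    intro t ht ht1
    refine hcentral t ht ht1 ?_
    haveI : (zpowers t).Normal := by
      refine ⟨fun x hx g => ?_⟩
      obtain ⟨k, hk⟩ := MonoidHom.map_cyclic (MulAut.conjNormal g : Fb ≃* Fb).toMonoidHom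
      have hxF : x ∈ Fb := zpowers_le.mpr ht hx
      have h := congrArg Subtype.val (hk ⟨x, hxF⟩)
      rw [MulEquiv.coe_toMonoidHom, MulAut.conjNormal_apply] at h
      rw [h]
      exact zpow_mem hx k
    rw [← centralizer_closure, ← zpowers_eq_closure]
    infer_instance
  -- the index is a power of `p`
  have hidx : ∀ q : ℕ, q.Prime → q ∣ L.index → q = p := by
    intro q hq hqd
    by_contra hqp
    haveI := Fact.mk hq
    rw [hL, index_comap_of_surjective _ (QuotientGroup.mk'_surjective P), index_eq_card] at hqd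
    obtain ⟨z, hz⟩ := exists_prime_orderOf_dvd_card' q hqd
    obtain ⟨y₀, hy₀⟩ := QuotientGroup.mk'_surjective Fb z
    obtain ⟨y, -, hy, j, hj⟩ := exists_prime_pow_lift (QuotientGroup.mk' Fb) y₀ (k := 1) hq
      (by rw [hy₀, hz, pow_one])
    have hyF : y ∉ Fb := fun h => by
      rw [← hy₀, ← hy, show QuotientGroup.mk' Fb y = 1 from (QuotientGroup.eq_one_iff y).mpr h,
        orderOf_one] at hz
      exact hq.one_lt.ne hz
    have hyqF : y ^ q ∈ Fb := by
      rw [← QuotientGroup.eq_one_iff]
      show QuotientGroup.mk' Fb (y ^ q) = 1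
      rw [map_pow, hy, hy₀, ← hz, pow_orderOf_eq_one]
    by_cases hqF : q ∣ Nat.card Fb
    · obtain ⟨T⟩ : Nonempty (Sylow q Fb) := inferInstance
      haveI := T.normal_of_normalizerCondition Group.normalizerCondition_of_isNilpotent
      haveI := T.characteristic_of_normal inferInstance
      set Q := (T : Subgroup Fb).map Fb.subtype with hQ
      haveI : Q.Normal := by rw [hQ]; infer_instance
      have hQ1 : Q ≠ ⊥ := by
        rw [hQ, Ne, map_eq_bot_iff_of_injective _ Fb.subtype_injective]
        exact T.ne_bot_of_dvd_card hqF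
      set M := Q ⊔ zpowers y with hM
      have hMp : IsPGroup q M :=
        (T.isPGroup'.map Fb.subtype).to_sup_of_normal_left (isPGroup_zpowers hj)
      haveI := hMp.isNilpotent
      have hQM : Q.subgroupOf M ≠ ⊥ := by
        rw [Ne, subgroupOf_eq_bot, disjoint_iff, inf_eq_left.mpr le_sup_left]
        exact hQ1
      obtain ⟨⟨c, hcM⟩, hc, hc1⟩ : ∃ c ∈ Q.subgroupOf M ⊓ center M, c ≠ 1 :=
        (bot_or_exists_ne_one _).resolve_left (Solvable.inf_center_ne_bot hQM)
      refine hyF (hCle c (map_subtype_le _ (mem_subgroupOf.mp hc.1))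
        (fun h => hc1 (Subtype.ext h)) ?_)
      rw [mem_centralizer_singleton_iff]
      exact congrArg Subtype.val
        (mem_center_iff.mp hc.2 ⟨y, mem_sup_right (mem_zpowers y)⟩)
    · have hyo : orderOf y = q := by
        have h1 : y ^ q = 1 := by
          refine orderOf_eq_one_iff.mp (Nat.eq_one_of_dvd_coprimes
            (a := q ^ j) (b := Nat.card Fb) ((hq.coprime_iff_not_dvd.mpr hqF).pow_left j)
            ?_ (Subgroup.orderOf_dvd_natCard Fb hyqF))
          rw [← hj]
          exact orderOf_pow_dvd q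
        exact orderOf_eq_prime h1 fun h => hyF (h ▸ one_mem Fb)
      obtain ⟨x₀, hx₀⟩ := QuotientGroup.mk'_surjective P y
      obtain ⟨x, -, hx, i, hi⟩ := exists_prime_pow_lift f x₀ (k := 1) hq
        (by rw [hx₀, hyo, pow_one])
      -- `F(G/P)⟨y⟩` acts on the centre of `P`
      let χ : G →* MulAut (center P) :=
        { toFun := fun g => MulAut.characteristic (center P) (MulAut.conjNormal g)
          map_one' := by simp
          map_mul' := fun a b => by simp }
      have hχ : ∀ (g : G) (v : center P), ((χ g v : P) : G) = g * ((v : P) : G) * g⁻¹ :=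
        fun g v => rfl
      have hχP : P ≤ χ.ker := by
        intro g hg
        ext v
        show ((χ g v : P) : G) = ((v : P) : G)
        rw [hχ, show g * ((v : P) : G) = ((v : P) : G) * g from
          congrArg Subtype.val (mem_center_iff.mp v.2 ⟨g, hg⟩), mul_inv_cancel_right]
      let ψ : G ⧸ P →* MulAut (center P) := QuotientGroup.lift P χ hχP
      letI : CommGroup (center P) :=
        { (inferInstance : Group (center P)) with mul_comm := fun a b => mul_comm' a b }
      letI : MulDistribMulAction (G ⧸ P) (center P) := MulDistribMulAction.compHom _ ψ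
      have hact : ∀ (g : G) (v : center P), (f g) • v = χ g v := fun g v => rfl
      haveI : Nontrivial (center P) := by
        haveI := (nontrivial_iff_ne_bot P).mpr hPne
        exact hPp.center_nontrivial
      obtain ⟨v, hv⟩ := exists_ne (1 : center P)
      have hfix : ∀ v : center P, (∀ r ∈ zpowers y, r • v = v) → v = 1 := by
        intro w hw
        by_contra hw1
        have h1 := hw y (mem_zpowers y)
        rw [← hx₀, ← hx, hact] at h1
        have h2 := congrArg (fun u : center P => ((u : P) : G)) h1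
        simp only [hχ] at h2
        have h3 := mem_centralizer_of_commute hCN hPp (x := ((w : P) : G)) (y := x) (w : P).2
          (fun h => hw1 (Subtype.ext (Subtype.ext h)))
          (hi ▸ ((Nat.coprime_primes hq hp).mpr hqp).pow_left i)
          (mul_inv_eq_iff_eq_mul.mp h2).symm
        have h4 : y = 1 := by rw [← hx₀, ← hx, (hfker x).mpr (hCP h3)]
        exact hyF (h4 ▸ one_mem Fb)
      have hfr : ∀ r ∈ zpowers y, r ≠ 1 → ∀ k ∈ Fb, k * r = r * k → k = 1 := by
        intro r hr hr1 k hk hkr
        by_contra hk1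
        have hrF : r ∈ Fb := hCle k hk hk1 (mem_centralizer_singleton_iff.mpr hkr.symm)
        refine hr1 (orderOf_eq_one_iff.mp (Nat.eq_one_of_dvd_coprimes
          (hq.coprime_iff_not_dvd.mpr hqF) ?_ (Subgroup.orderOf_dvd_natCard Fb hrF)))
        rw [← hyo, ← Nat.card_zpowers y]
        exact Subgroup.orderOf_dvd_natCard _ hr
      obtain ⟨b, hb, hb1⟩ := Fb.bot_or_exists_ne_one.resolve_left hFb1
      obtain ⟨⟨a, ha⟩, hab⟩ := eq.surjective ⟨b, hb⟩
      have hab' : f a = b := congrArg Subtype.val hab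
      have hP2 : (Nat.card Fb).Coprime (Nat.card (center P)) := by
        refine (hFbco.pow_right m).coprime_dvd_right ?_
        rw [← hm]
        exact card_subgroup_dvd_card _
      have hav := OddOrder.smul_eq_self_of_frobenius Fb (zpowers y)
        le_normalizer_of_normal hfr hP2 hfix hb v
      rw [← hab', hact] at hav
      have h2 := congrArg (fun u : center P => ((u : P) : G)) hav
      simp only [hχ] at h2
      refine hv (Subtype.ext (Subtype.ext (Solvable.eq_one_of_commute_of_fpf hfpf ha
        (fun h => hb1 (by rw [← hab', h, map_one])) (v : P).2 ?_)))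
      exact mul_inv_eq_iff_eq_mul.mp h2
  refine ⟨p, hp, hPne, A, ?_, hAcyc, hAodd, hAco, ?_, ?_, ?_, hfpf, ?_⟩
  · intro h
    rw [h, card_bot] at hAc
    exact hFb1 (card_eq_one.mp hAc.symm)
  · rw [← hPdef, hPA]; exact hLn
  · rw [← hPdef, hPA]
    intro htop
    have h1 : Fb = ⊤ := by
      rw [← map_comap_eq_self_of_surjective (QuotientGroup.mk'_surjective P) Fb, ← hf, ← hL, htop,
        map_top_of_surjective _ (QuotientGroup.mk'_surjective P)]
    rw [h1, card_top, ← index_eq_card] at hFbco
    exact hp.not_dvd_one (hFbco ▸ Nat.dvd_gcd hpidx dvd_rfl)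
  · rw [← hPdef, hPA]
    exact ⟨_, Nat.eq_prime_pow_of_unique_prime_dvd index_ne_zero_of_finite
      fun {q} hq hd => hidx q hq hd⟩
  · rw [← hPdef, hPA]
    intro x hx a ha ha1 hmem
    refine hx (mem_comap.mpr (hCle (f a) (mem_comap.mp (hAL ha))
      (fun h => ha1 (hinjA a ha h)) ?_))
    rw [mem_centralizer_singleton_iff]
    have h := (hfker _).mpr hmem
    rw [map_mul, map_mul, map_mul, map_inv, map_inv, mul_inv_eq_one, mul_inv_eq_iff_eq_mul] at h
    exact h

/-- The three cases of a solvable CN-group. -/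
theorem solvable_cases [Group.IsSolvable G] (hCN : Cfsg.IsCNGroup G) :
    Group.IsNilpotent G ∨
      (∃ K E : Subgroup G, K.Normal ∧ K ≠ ⊥ ∧ Group.IsNilpotent K ∧ E ≠ ⊥ ∧
        Group.IsNilpotent E ∧ IsComplement' K E ∧ Cfsg.IsFrobeniusComplement E ∧
        ∀ e ∈ E, e ≠ 1 → K ⊓ centralizer ({e} : Set G) = ⊥) ∨
      ∃ p : ℕ, p.Prime ∧ Cfsg.IsThreeStepGroup p G := by
  by_cases hnn : Group.IsNilpotent G
  · exact Or.inl hnn
  refine Or.inr ?_
  by_cases h : ∀ (p : ℕ) (_ : Fact p.Prime) (S : Sylow p G), (S : Subgroup G).Normal →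
      (S : Subgroup G) = ⊥
  · exact Or.inr (isThreeStepGroup_of_solvable hCN hnn h)
  push Not at h
  obtain ⟨p, hp, S, hSn, hS1⟩ := h
  obtain ⟨h1, -, ⟨E, hE, hF, hfpf⟩, -⟩ := frobenius_of_normal_sylow hCN hnn S hS1 hSn
  exact Or.inl ⟨_, E, inferInstance, h1, fittingHall_isNilpotent, hF.1,
    isNilpotent_of_fpf hCN h1 fittingHall_isNilpotent hfpf, hE, hF, hfpf⟩

end CfsgLib.OddOrder.CN
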